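import Cfsg.Prelude.Def_MonsterType
import Mathlib

set_option autoImplicit false
set_option linter.style.haveILetI false

namespace Cfsg.Agent.Lib.LargeExtra.Basic

open Subgroup
open scoped commutatorElement

variable {G : Type*} [Group G]

/-- centre of a subgroup, seen in the ambient group -/
theorem mem_centerMap {Q : Subgroup G} {x : G} :
    x ∈ (Subgroup.center ↥Q).map Q.subtype ↔ x ∈ Q ∧ ∀ y ∈ Q, y * x = x * y := by
  constructor
  · rintro ⟨⟨x, hx⟩, hc, rfl⟩
    refine ⟨hx, fun y hy => ?_⟩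
    have := Subgroup.mem_center_iff.mp hc ⟨y, hy⟩
    exact congrArg Subtype.val this
  · rintro ⟨hx, hc⟩
    exact ⟨⟨x, hx⟩, Subgroup.mem_center_iff.mpr fun g => Subtype.ext (hc g g.2), rfl⟩

theorem centerMap_le (Q : Subgroup G) : (Subgroup.center ↥Q).map Q.subtype ≤ Q :=
  fun _ hx => (mem_centerMap.mp hx).1

theorem card_centerMap {Q : Subgroup G} (hQ : IsExtraspecial 2 ↥Q) :
    Nat.card ↥((Subgroup.center ↥Q).map Q.subtype) = 2 :=
  (Nat.card_congr (Subgroup.equivMapOfInjective _ _ Q.subtype_injective).toEquiv).symm.trans hQ.2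

theorem isPGroup {Q : Subgroup G} (hQ : IsExtraspecial 2 ↥Q) : IsPGroup 2 Q := hQ.1.1

/-- the involution generating the centre -/
theorem exists_z {Q : Subgroup G} (hQ : IsExtraspecial 2 ↥Q) :
    ∃ z : G, orderOf z = 2 ∧ (Subgroup.center ↥Q).map Q.subtype = Subgroup.zpowers z := by
  haveI : Fact (Nat.Prime 2) := ⟨Nat.prime_two⟩
  have hc := card_centerMap hQ
  haveI : Nontrivial ↥((Subgroup.center ↥Q).map Q.subtype) := by
    apply Nat.card_pos_iff.mp (by omega : 0 < Nat.card ↥((Subgroup.center ↥Q).map Q.subtype)) |> fun h => ?_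
    haveI := h.2
    exact Finite.one_lt_card_iff_nontrivial.mp (by omega)
  obtain ⟨⟨z, hz⟩, hne⟩ := exists_ne (1 : ↥((Subgroup.center ↥Q).map Q.subtype))
  have hord : orderOf (⟨z, hz⟩ : ↥((Subgroup.center ↥Q).map Q.subtype)) = 2 := by
    have h2 := orderOf_dvd_natCard (⟨z, hz⟩ : ↥((Subgroup.center ↥Q).map Q.subtype))
    rw [hc] at h2
    exact ((Nat.dvd_prime Nat.prime_two).mp h2).resolve_left (fun h => hne (orderOf_eq_one_iff.mp h))
  have hordz : orderOf z = 2 := by rw [← hord]; exact (Subgroup.orderOf_mk _ _).symm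
  refine ⟨z, hordz, ?_⟩
  haveI : Finite ↥((Subgroup.center ↥Q).map Q.subtype) := Nat.finite_of_card_ne_zero (by omega)
  exact (Subgroup.eq_of_le_of_card_ge ((Subgroup.zpowers_le).mpr hz)
    (by rw [Nat.card_zpowers, hordz, hc])).symm

/-- the elements of the cyclic group generated by an involution -/
theorem eq_one_or_eq {z x : G} (hz : orderOf z = 2) (hx : x ∈ Subgroup.zpowers z) : x = 1 ∨ x = z := by
  obtain ⟨i, rfl⟩ := hx
  show z ^ i = 1 ∨ z ^ i = z
  rw [← zpow_mod_orderOf, hz]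
  rcases Int.emod_two_eq_zero_or_one i with h | h
  · exact Or.inl (by simp [h])
  · exact Or.inr (by simp [h])

/-- commutators of `Q` lie in the centre -/
theorem commutator_mem {Q : Subgroup G} (hQ : IsExtraspecial 2 ↥Q) {x y : G} (hx : x ∈ Q) (hy : y ∈ Q) :
    x * y * x⁻¹ * y⁻¹ ∈ (Subgroup.center ↥Q).map Q.subtype := by
  refine ⟨⁅(⟨x, hx⟩ : ↥Q), ⟨y, hy⟩⁆, ?_, ?_⟩
  · rw [← hQ.1.2.2]
    exact Subgroup.commutator_mem_commutator (Subgroup.mem_top _) (Subgroup.mem_top _)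
  · rfl

/-- a finite group with two subgroups of coprime orders normalising each other: they commute -/
theorem odd_inf_two_eq_bot [Finite G] {K P : Subgroup G} (hK : Odd (Nat.card K)) (hP : IsPGroup 2 P) :
    K ⊓ P = ⊥ := by
  haveI : Fact (Nat.Prime 2) := ⟨Nat.prime_two⟩
  obtain ⟨n, hn⟩ := hP.exists_card_eq
  apply inf_eq_bot_of_coprime
  rw [hn]
  exact Nat.Coprime.pow_right n (Nat.coprime_two_right.mpr hK)

/-- the 2-core of a finite group is a 2-group -/
theorem pCore_isPGroup (H : Type*) [Group H] [Finite H] : IsPGroup 2 (Cfsg.pCore 2 H) := by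
  haveI : Fact (Nat.Prime 2) := ⟨Nat.prime_two⟩
  obtain ⟨P⟩ := (inferInstance : Nonempty (Sylow 2 H))
  refine P.2.to_le ?_
  refine sSup_le ?_
  rintro N ⟨hN, hNp⟩
  obtain ⟨P', hP'⟩ := hNp.exists_le_sylow
  obtain ⟨g, hg⟩ := MulAction.exists_smul_eq H P' P
  intro x hx
  have hx' : g⁻¹ * x * g⁻¹⁻¹ ∈ N := hN.conj_mem x hx g⁻¹
  rw [← hg, Sylow.coe_subgroup_smul, Subgroup.mem_pointwise_smul_iff_inv_smul_mem]
  have := hP' hx'
  simpa [MulAut.smul_def] using this

theorem pCore_normal' (H : Type*) [Group H] : (Cfsg.pCore 2 H).Normal :=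
  Subgroup.sSup_normal _ (fun _ h => h.1)

/-- an odd order subgroup normalised by `Q` and centralising `Z(Q)` is trivial -/
theorem eq_bot_of_centralizes [Finite G] {Q : Subgroup G} (hQ : IsExtraspecial 2 ↥Q)
    (hL2 : Subgroup.centralizer (Q : Set G) = (Subgroup.center ↥Q).map Q.subtype)
    (hL3 : Subgroup.centralizer (((Subgroup.center ↥Q).map Q.subtype) : Set G) ≤
      Subgroup.normalizer (Q : Set G))
    (K : Subgroup G) (hK : Odd (Nat.card K)) (hQK : Q ≤ Subgroup.normalizer (K : Set G))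
    (hKZ : ∀ k ∈ K, ∀ z ∈ (Subgroup.center ↥Q).map Q.subtype, k * z = z * k) : K = ⊥ := by
  have hQp := isPGroup hQ
  have hKN : K ≤ Subgroup.normalizer (Q : Set G) := fun k hk =>
    hL3 (Subgroup.mem_centralizer_iff.mpr fun z hz => (hKZ k hk z hz).symm)
  have hKC : K ≤ Subgroup.centralizer (Q : Set G) := by
    intro k hk
    rw [Subgroup.mem_centralizer_iff]
    intro q hq
    have h1 : q * k * q⁻¹ * k⁻¹ ∈ K :=
      K.mul_mem ((Subgroup.mem_normalizer_iff.mp (hQK hq) k).mp hk) (K.inv_mem hk)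
    have h2 : q * k * q⁻¹ * k⁻¹ ∈ Q := by
      have : k * q⁻¹ * k⁻¹ ∈ Q := (Subgroup.mem_normalizer_iff.mp (hKN hk) _).mp (Q.inv_mem hq)
      simpa [mul_assoc] using Q.mul_mem hq this
    have h3 : q * k * q⁻¹ * k⁻¹ ∈ K ⊓ Q := ⟨h1, h2⟩
    rw [odd_inf_two_eq_bot hK hQp, Subgroup.mem_bot] at h3
    exact mul_inv_eq_iff_eq_mul.mp (mul_inv_eq_one.mp h3)
  rw [hL2] at hKC
  have : K ≤ K ⊓ Q := le_inf le_rfl (hKC.trans (centerMap_le Q))
  rw [odd_inf_two_eq_bot hK hQp] at this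
  exact le_bot_iff.mp this

/-- an element of order two acting without fixed points on a finite subgroup inverts it -/
theorem inverts_of_fixedPointFree {t : G} (ht : t * t = 1) (K : Subgroup G) [Finite K]
    (hn : ∀ k ∈ K, t * k * t⁻¹ ∈ K) (hf : ∀ k ∈ K, t * k * t⁻¹ = k → k = 1) :
    ∀ k ∈ K, t * k * t⁻¹ = k⁻¹ := by
  let φ : ↥K →* ↥K :=
    { toFun := fun k => ⟨t * k * t⁻¹, hn k k.2⟩
      map_one' := by ext; simp
      map_mul' := by intro a b; ext; simp [mul_assoc] }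
  have hinv : t⁻¹ = t := inv_eq_of_mul_eq_one_right ht
  have h2 : Function.Involutive φ := by
    intro k; ext
    show t * (t * k * t⁻¹) * t⁻¹ = (k : G)
    calc t * (t * k * t⁻¹) * t⁻¹ = (t * t) * k * (t⁻¹ * t⁻¹) := by simp [mul_assoc]
      _ = (k : G) := by rw [hinv, ht]; simp
  have hfp : MonoidHom.FixedPointFree φ := fun k hk =>
    Subtype.ext (hf k k.2 (congrArg Subtype.val hk))
  intro k hk
  have := congrFun (hfp.coe_eq_inv_of_involutive h2) ⟨k, hk⟩
  exact congrArg Subtype.val this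

end Cfsg.Agent.Lib.LargeExtra.Basic
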