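import Cfsg.Agent.Lib.K41.ESCentralizer
import Cfsg.Agent.Lib.LargeExtra.Basic

/-!
An extraspecial 2-group `Q` with `C(Q) = Z(Q) = ⟨z⟩`, normal in `C(z)`, containing a conjugate
`y = g z g⁻¹` of `z`: the four-group `⟨z, y⟩`, the group `X = ⟨Q, gQg⁻¹⟩` and its core `R`.
-/

set_option autoImplicit false
set_option linter.all false

namespace Cfsg.Agent.Lib.LargeExtra.TwoConjugate

open Cfsg.Agent.Lib.LargeExtraspecial.Basic
open Subgroup
open scoped Pointwise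

variable {G : Type*} [Group G]

theorem mem_conj {g x : G} {Q : Subgroup G} :
    x ∈ Q.map (MulAut.conj g).toMonoidHom ↔ g⁻¹ * x * g ∈ Q := by
  constructor
  · rintro ⟨q, hq, rfl⟩; simpa [mul_assoc] using hq
  · intro h; exact ⟨_, h, by simp [mul_assoc]⟩

theorem conj_mem {g x : G} {Q : Subgroup G} (h : x ∈ Q) :
    g * x * g⁻¹ ∈ Q.map (MulAut.conj g).toMonoidHom := ⟨x, h, rfl⟩

theorem es_of {Q : Subgroup G} [Finite G] (hQ : Cfsg.IsExtraspecial 2 ↥Q) {z : G}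
    (hz : (Subgroup.center ↥Q).map Q.subtype = Subgroup.zpowers z) : ES Q z ∧ orderOf z = 2 := by
  obtain ⟨w, hw2, hw⟩ := Cfsg.Agent.Lib.LargeExtra.Basic.exists_z hQ
  have hz2 : orderOf z = 2 := by
    rw [← Nat.card_zpowers, ← hz, Cfsg.Agent.Lib.LargeExtra.Basic.card_centerMap hQ]
  have hm : z ∈ (Subgroup.center ↥Q).map Q.subtype := hz ▸ Subgroup.mem_zpowers z
  obtain ⟨hzQ, hzc⟩ := Cfsg.Agent.Lib.LargeExtra.Basic.mem_centerMap.mp hm
  have hcen : ∀ q ∈ Q, (∀ p ∈ Q, Commute p q) → q = 1 ∨ q = z := fun q hq hc =>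
    Cfsg.Agent.Lib.LargeExtra.Basic.eq_one_or_eq hz2
      (hz ▸ Cfsg.Agent.Lib.LargeExtra.Basic.mem_centerMap.mpr ⟨hq, fun p hp => (hc p hp).eq⟩)
  refine ⟨⟨hzQ, fun h => by simp [h] at hz2, by rw [← sq, ← hz2, pow_orderOf_eq_one],
    fun p hp => hzc p hp, hcen, fun q hq v hv => ?_⟩, hz2⟩
  have h1 : q * v * q⁻¹ * v⁻¹ = 1 ∨ q * v * q⁻¹ * v⁻¹ = z :=
    Cfsg.Agent.Lib.LargeExtra.Basic.eq_one_or_eq hz2
      (hz ▸ Cfsg.Agent.Lib.LargeExtra.Basic.commutator_mem hQ hq hv)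
  rcases h1 with h | h
  · exact Or.inl (mul_inv_eq_one.mp h)
  · exact Or.inr ((mul_inv_eq_iff_eq_mul.mp h).trans (hzc v hv).symm)

theorem centralizer_eq_of {Q : Subgroup G} {z : G} (hz2 : orderOf z = 2)
    (hz : (Subgroup.center ↥Q).map Q.subtype = Subgroup.zpowers z)
    (hL2 : Subgroup.centralizer (Q : Set G) = (Subgroup.center ↥Q).map Q.subtype)
    (c : G) (hc : ∀ q ∈ Q, Commute c q) : c = 1 ∨ c = z := by
  refine Cfsg.Agent.Lib.LargeExtra.Basic.eq_one_or_eq hz2 ?_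
  rw [← hz, ← hL2, Subgroup.mem_centralizer_iff]
  exact fun q hq => (hc q hq).eq.symm

theorem norm_of {Q : Subgroup G} {z : G}
    (hz : (Subgroup.center ↥Q).map Q.subtype = Subgroup.zpowers z)
    (hL3 : Subgroup.centralizer (((Subgroup.center ↥Q).map Q.subtype) : Set G) ≤
      Subgroup.normalizer (Q : Set G))
    (c : G) (hc : Commute c z) (q : G) (hq : q ∈ Q) : c * q * c⁻¹ ∈ Q := by
  refine (Subgroup.mem_normalizer_iff.mp (hL3 ?_) q).mp hq
  rw [hz, Subgroup.mem_centralizer_iff]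
  rintro w ⟨k, rfl⟩
  exact (hc.zpow_right k).eq.symm

/-- The hypotheses: `Q` extraspecial, `C(Q) = ⟨z⟩`, `C(z)` normalises `Q`, `g z g⁻¹ ∈ Q ∖ ⟨z⟩`. -/
structure Setting (Q : Subgroup G) (z g : G) : Prop where
  es : ES Q z
  cent : ∀ c : G, (∀ q ∈ Q, Commute c q) → c = 1 ∨ c = z
  norm : ∀ c : G, Commute c z → ∀ q ∈ Q, c * q * c⁻¹ ∈ Q
  mem : g * z * g⁻¹ ∈ Q
  ne : g * z * g⁻¹ ≠ z
  big : 16 ≤ Nat.card ↥Q

theorem es_map {Q : Subgroup G} {z : G} (h : ES Q z) (g : G) :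
    ES (Q.map (MulAut.conj g).toMonoidHom) (g * z * g⁻¹) := by
  refine ⟨conj_mem h.mem, fun h1 => h.ne (by simpa using h1), ?_, ?_, ?_, ?_⟩
  · calc g * z * g⁻¹ * (g * z * g⁻¹) = g * (z * z) * g⁻¹ := by group
      _ = 1 := by rw [h.sq]; group
  · rintro _ ⟨p, hp, rfl⟩
    exact (h.comm p hp).map (MulAut.conj g).toMonoidHom
  · rintro _ ⟨q, hq, rfl⟩ hc
    rcases h.center q hq (fun p hp => (hc _ (conj_mem hp)).of_map
      (MulAut.conj g).injective) with rfl | rfl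
    · exact Or.inl (map_one _)
    · exact Or.inr rfl
  · rintro _ ⟨q, hq, rfl⟩ _ ⟨v, hv, rfl⟩
    rcases h.conj q hq v hv with h1 | h1
    · left; simpa only [map_mul, map_inv] using congrArg (MulAut.conj g).toMonoidHom h1
    · right
      have := congrArg (MulAut.conj g).toMonoidHom h1
      simp only [map_mul, map_inv] at this
      exact this

/-- `C_P(C_P(N)) = N`. -/
theorem double_centralizer [Finite G] {P : Subgroup G} {z : G} (h : ES P z) {N : Subgroup G}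
    (hN : N ≤ P) (hz : z ∈ N) :
    P ⊓ Subgroup.centralizer ((P ⊓ Subgroup.centralizer (N : Set G) : Subgroup G) : Set G) = N := by
  set M := P ⊓ Subgroup.centralizer (N : Set G) with hM
  have hzM : z ∈ M := ⟨h.mem, fun n hn => (h.comm n (hN hn)).eq⟩
  have h1 := K41.ESCentralizer.card_centralizer h hN hz
  have h2 := K41.ESCentralizer.card_centralizer h (inf_le_left : M ≤ P) hzM
  rw [← hM] at h1
  have hle : N ≤ P ⊓ Subgroup.centralizer (M : Set G) := fun n hn =>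
    Subgroup.mem_inf.mpr ⟨hN hn, Subgroup.mem_centralizer_iff.mpr fun m hm => (hm.2 n hn).symm⟩
  refine (Subgroup.eq_of_le_of_card_ge hle ?_).symm
  · have hpos : 0 < Nat.card ↥M := Nat.card_pos
    exact Nat.le_of_mul_le_mul_right (by rw [h2, mul_comm (Nat.card ↥N), h1]) hpos

theorem two_cases {r t y u v : G} (hrt : Commute r t) (hyr : Commute y r) (hyt : Commute y t)
    (hy : y * y = 1) (hu : u = r ∨ u = r * y) (hv : v = t ∨ v = t * y) :
    (u * t)⁻¹ * (v * r) = 1 ∨ (u * t)⁻¹ * (v * r) = y := by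
  have hsymm : y⁻¹ = y := inv_eq_of_mul_eq_one_right hy
  have e : t * r = r * t := hrt.eq.symm
  have e1 : r * y * t = r * t * y := by rw [mul_assoc, hyt.eq, ← mul_assoc]
  have e2 : t * y * r = r * t * y := by rw [mul_assoc, hyr.eq, ← mul_assoc, e]
  rcases hu with rfl | rfl <;> rcases hv with rfl | rfl
  · exact Or.inl (by rw [e, inv_mul_cancel])
  · exact Or.inr (by rw [e2, inv_mul_cancel_left])
  · exact Or.inr (by rw [e1, e, mul_inv_rev, inv_mul_cancel_right, hsymm])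
  · exact Or.inl (by rw [e1, e2, inv_mul_cancel])

variable {Q : Subgroup G} {z g : G} (s : Setting Q z g)
include s

local notation "𝐲" => g * z * g⁻¹
local notation "𝐏" => Subgroup.map (MulEquiv.toMonoidHom (MulAut.conj g)) Q

theorem es' : ES 𝐏 𝐲 := es_map s.es g

theorem commute_zy : Commute z 𝐲 := (s.es.comm _ s.mem).symm

theorem y_ne_one : 𝐲 ≠ 1 := fun h => s.es.ne (by simpa using h)

theorem cent' (c : G) (hc : ∀ q ∈ 𝐏, Commute c q) : c = 1 ∨ c = 𝐲 := by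
  rcases s.cent (g⁻¹ * c * g) (fun q hq => by
    have := (hc _ (conj_mem hq)).map (MulAut.conj g⁻¹).toMonoidHom
    simpa [mul_assoc] using this) with h | h
  · left
    calc c = g * (g⁻¹ * c * g) * g⁻¹ := by group
      _ = 1 := by rw [h]; group
  · right
    calc c = g * (g⁻¹ * c * g) * g⁻¹ := by group
      _ = 𝐲 := by rw [h]

theorem norm' (c : G) (hc : Commute c 𝐲) (q : G) (hq : q ∈ 𝐏) : c * q * c⁻¹ ∈ 𝐏 := by
  rw [mem_conj] at hq ⊢
  have hc' : Commute (g⁻¹ * c * g) z := by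
    have := hc.map (MulAut.conj g⁻¹).toMonoidHom
    simpa [mul_assoc] using this
  have := s.norm _ hc' _ hq
  simpa [mul_assoc] using this

/-- The conjugate of `Q` only depends on the conjugate of `z`. -/
theorem conjQ_eq {a b : G} (h : a * z * a⁻¹ = b * z * b⁻¹) :
    Q.map (MulAut.conj a).toMonoidHom = Q.map (MulAut.conj b).toMonoidHom := by
  have key : ∀ a b : G, a * z * a⁻¹ = b * z * b⁻¹ →
      Q.map (MulAut.conj a).toMonoidHom ≤ Q.map (MulAut.conj b).toMonoidHom := by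
    rintro a b h _ ⟨q, hq, rfl⟩
    have hc : Commute (b⁻¹ * a) z := by
      show b⁻¹ * a * z = z * (b⁻¹ * a)
      calc b⁻¹ * a * z = b⁻¹ * (a * z * a⁻¹) * a := by group
        _ = b⁻¹ * (b * z * b⁻¹) * a := by rw [h]
        _ = z * (b⁻¹ * a) := by group
    rw [mem_conj]
    have := s.norm _ hc q hq
    simpa [mul_assoc] using this
  exact le_antisymm (key a b h) (key b a h.symm)

/-- the group `C_Q(y)` is not abelian -/
theorem exists_noncommuting [Finite G] :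
    ∃ a ∈ Q, ∃ b ∈ Q, Commute a 𝐲 ∧ Commute b 𝐲 ∧ ¬ Commute a b := by
  by_contra hc
  push Not at hc
  set N : Subgroup G := Subgroup.zpowers z ⊔ Subgroup.zpowers 𝐲 with hN
  have hzN : z ∈ N := Subgroup.mem_sup_left (Subgroup.mem_zpowers z)
  have hNQ : N ≤ Q := sup_le (Subgroup.zpowers_le.mpr s.es.mem) (Subgroup.zpowers_le.mpr s.mem)
  have hyz : 𝐲 ∉ Subgroup.zpowers z := fun h => by
    rcases Cfsg.Agent.Lib.LargeExtra.Basic.eq_one_or_eq
      (orderOf_eq_prime (by rw [sq, s.es.sq]) s.es.ne) h with h | h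
    · exact y_ne_one s h
    · exact s.ne h
  have hN4 : Nat.card ↥N = 4 := by
    rw [hN, K41.ESCentralizer.card_adjoin s.es (Subgroup.zpowers_le.mpr s.es.mem)
      (Subgroup.mem_zpowers z) s.mem hyz, K41.ESCentralizer.card_zpowers_z s.es]
  have h1 := K41.ESCentralizer.card_centralizer s.es hNQ hzN
  set W := Q ⊓ Subgroup.centralizer (N : Set G) with hW
  have hWy : ∀ a ∈ W, Commute a 𝐲 := fun a ha =>
    (ha.2 𝐲 (Subgroup.mem_sup_right (Subgroup.mem_zpowers _))).symm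
  have hWN : W ≤ N := by
    rw [← double_centralizer s.es hNQ hzN]
    exact fun a ha => ⟨ha.1, fun b hb => (hc b hb.1 a ha.1 (hWy b hb) (hWy a ha)).eq⟩
  have h2 := Subgroup.card_le_of_le hWN
  rw [hN4] at h1 h2
  have := s.big
  omega

/-- `C_Q(C_Q(y)) = {1, z, y, zy}`. -/
theorem mem_four_of_commute [Finite G] {e : G} (he : e ∈ Q)
    (hc : ∀ a ∈ Q, Commute a 𝐲 → Commute e a) :
    e ∈ Subgroup.zpowers z ⊔ Subgroup.zpowers 𝐲 := by
  have hzN : z ∈ Subgroup.zpowers z ⊔ Subgroup.zpowers 𝐲 :=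
    Subgroup.mem_sup_left (Subgroup.mem_zpowers z)
  rw [← double_centralizer s.es
    (sup_le (Subgroup.zpowers_le.mpr s.es.mem) (Subgroup.zpowers_le.mpr s.mem)) hzN]
  exact ⟨he, fun a ha =>
    (hc a ha.1 (ha.2 𝐲 (Subgroup.mem_sup_right (Subgroup.mem_zpowers _))).symm).eq.symm⟩

theorem four_cases {e : G} (he : e ∈ Subgroup.zpowers z ⊔ Subgroup.zpowers 𝐲) :
    e = 1 ∨ e = z ∨ e = 𝐲 ∨ e = z * 𝐲 := by
  have hzy := commute_zy s
  have hn : Subgroup.zpowers 𝐲 ≤ Subgroup.normalizer ((Subgroup.zpowers z : Subgroup G) : Set G) := by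
    rw [Subgroup.zpowers_le]
    apply Subgroup.centralizer_le_normalizer
    rw [Subgroup.mem_centralizer_iff]
    rintro w ⟨k, rfl⟩
    exact (hzy.zpow_left k).eq
  have he' : e ∈ (Subgroup.zpowers z : Set G) * (Subgroup.zpowers 𝐲 : Set G) := by
    rw [← Subgroup.coe_mul_of_right_le_normalizer_left _ _ hn]; exact he
  obtain ⟨u, hu, v, hv, rfl⟩ := he'
  have hz2 : orderOf z = 2 := orderOf_eq_prime (by rw [sq, s.es.sq]) s.es.ne
  have hy2 : orderOf 𝐲 = 2 := orderOf_eq_prime (by rw [sq, (es' s).sq]) (y_ne_one s)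
  rcases Cfsg.Agent.Lib.LargeExtra.Basic.eq_one_or_eq hz2 hu with rfl | rfl <;>
    rcases Cfsg.Agent.Lib.LargeExtra.Basic.eq_one_or_eq hy2 hv with rfl | rfl <;> simp

/-- The heart: `z` is moved to `zy` inside `gQg⁻¹`. -/
theorem exists_conj_z [Finite G] : ∃ q ∈ 𝐏, q * z * q⁻¹ = z * 𝐲 := by
  by_contra hcon
  push Not at hcon
  have hy := es' s
  have hzy := commute_zy s
  have hzP : z ∉ 𝐏 := fun h => by
    obtain ⟨q, hq, he⟩ := hy.exists_conj_ne h s.es.ne (Ne.symm s.ne)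
    exact hcon q hq he
  have hEE : ∀ e, e ∈ Q → e ∈ 𝐏 → e = 1 ∨ e = 𝐲 := by
    intro e he heP
    have hmem := mem_four_of_commute s he fun a ha hay => by
      rcases s.es.conj a ha e he with h | h
      · exact (show Commute a e from mul_inv_eq_iff_eq_mul.mp h).symm
      · exfalso
        refine hzP ?_
        have h1 : e⁻¹ * (a * e * a⁻¹) ∈ 𝐏 := mul_mem (inv_mem heP) (norm' s a hay e heP)
        simpa [h] using h1
    rcases four_cases s hmem with h | h | h | h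
    · exact Or.inl h
    · exact absurd (h ▸ heP) hzP
    · exact Or.inr h
    · exfalso
      refine hzP ?_
      have h1 : e * 𝐲 ∈ 𝐏 := mul_mem heP hy.mem
      rwa [h, mul_assoc, hy.sq, mul_one] at h1
  -- no element of the second group moves `z` by `y`
  have hno : ∀ r ∈ 𝐏, z * r * z⁻¹ = r * 𝐲 → False := by
    intro r hr h
    refine hcon r⁻¹ (inv_mem hr) ?_
    calc r⁻¹ * z * r⁻¹⁻¹ = r⁻¹ * (z * r * z⁻¹) * z := by group
      _ = r⁻¹ * (r * 𝐲) * z := by rw [h]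
      _ = z * 𝐲 := by rw [inv_mul_cancel_left]; exact hzy.eq.symm
  have hzn : ∀ q ∈ 𝐏, z * q * z⁻¹ ∈ 𝐏 := fun q hq => norm' s z hzy q hq
  have hf : ∀ q ∈ 𝐏, z * q * z⁻¹ * q⁻¹ ∈ 𝐏 := fun q hq => mul_mem (hzn q hq) (inv_mem hq)
  set N : Subgroup G :=
    Subgroup.closure ({x | ∃ q ∈ 𝐏, x = z * q * z⁻¹ * q⁻¹} ∪ {𝐲}) with hN
  have hNP : N ≤ 𝐏 := by
    rw [hN, Subgroup.closure_le]
    rintro x (⟨q, hq, rfl⟩ | rfl)
    exacts [hf q hq, hy.mem]
  have hyN : 𝐲 ∈ N := Subgroup.subset_closure (Or.inr rfl)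
  -- `N` is centralised by `z`
  have hNz : ∀ x ∈ N, Commute z x := by
    intro x hx
    induction hx using Subgroup.closure_induction with
    | mem x hx =>
      rcases hx with ⟨q, hq, rfl⟩ | rfl
      · set f := z * q * z⁻¹ * q⁻¹ with hfdef
        have h1 : z * f * z⁻¹ = f⁻¹ := by
          rw [hfdef]
          calc z * (z * q * z⁻¹ * q⁻¹) * z⁻¹ = (z * z) * q * z⁻¹ * q⁻¹ * z⁻¹ := by group
            _ = q * z * q⁻¹ * z⁻¹ := by rw [s.es.sq, s.es.zinv, one_mul]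
            _ = _ := by group
        rcases hy.sq_cases (hf q hq) with h2 | h2
        · exact mul_inv_eq_iff_eq_mul.mp (h1.trans (inv_eq_of_mul_eq_one_right h2))
        · exfalso
          refine hno f (hf q hq) (h1.trans (inv_eq_of_mul_eq_one_right ?_))
          rw [← mul_assoc, h2, hy.sq]
      · exact hzy
    | one => exact Commute.one_right z
    | mul _ _ _ _ ha hb => exact ha.mul_right hb
    | inv _ _ ha => exact ha.inv_right
  -- what centralises `N` centralises `z`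
  have hCN : 𝐏 ⊓ Subgroup.centralizer (N : Set G) ≤ 𝐏 ⊓ Subgroup.centralizer ({z} : Set G) := by
    rintro r ⟨hr, hrN⟩
    refine ⟨hr, Subgroup.mem_centralizer_singleton_iff.mpr ?_⟩
    have hs : ∀ q ∈ 𝐏, Commute ((z * r * z⁻¹) * r) q := by
      intro q hq
      refine chi_eq_zero.mp ?_
      have h1 : chi r (z * q * z⁻¹ * q⁻¹) = 0 :=
        chi_eq_zero.mpr (hrN _ (Subgroup.subset_closure (Or.inl ⟨q, hq, rfl⟩))).symm
      have h2 : chi r (z * q * z⁻¹) = chi (z * r * z⁻¹) q := by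
        conv_rhs => rw [← chi_conj z]
        congr 1
        calc r = (z * z) * r * (z * z)⁻¹ := by rw [s.es.sq]; simp
          _ = _ := by group
      rw [hy.chi_mul_right hr (hzn q hq) (inv_mem hq), h2] at h1
      have h3 : chi r q⁻¹ = chi r q := by
        have h4 : chi r (q * q⁻¹) = chi r q + chi r q⁻¹ := hy.chi_mul_right hr hq (inv_mem hq)
        rw [mul_inv_cancel, chi_eq_zero.mpr (Commute.one_right r)] at h4
        exact ((CharTwo.add_eq_zero).mp h4.symm).symm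
      rw [hy.chi_mul_left (hzn r hr) hr hq, ← h3]
      exact h1
    rcases cent' s _ hs with h | h
    · rcases hy.sq_cases hr with h2 | h2
      · have : z * r * z⁻¹ = r := by
          rw [eq_inv_of_mul_eq_one_left h, inv_eq_of_mul_eq_one_right h2]
        exact (mul_inv_eq_iff_eq_mul.mp this).symm
      · exfalso
        refine hno r hr ?_
        rw [eq_inv_of_mul_eq_one_left h, inv_eq_iff_mul_eq_one, ← mul_assoc, h2, hy.sq]
    · rcases hy.sq_cases hr with h2 | h2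
      · exfalso
        refine hno r hr ?_
        rw [eq_mul_inv_of_mul_eq h, inv_eq_of_mul_eq_one_right h2]
        exact (hy.comm r hr).eq.symm
      · have : z * r * z⁻¹ = r := by
          rw [eq_mul_inv_of_mul_eq h]
          exact mul_inv_eq_iff_eq_mul.mpr h2.symm
        exact (mul_inv_eq_iff_eq_mul.mp this).symm
  set W' := 𝐏 ⊓ Subgroup.centralizer ({z} : Set G) with hW'
  have hD : 𝐏 ⊓ Subgroup.centralizer (W' : Set G) ≤ N := by
    rw [← double_centralizer hy hNP hyN]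
    exact inf_le_inf_left _ (Subgroup.centralizer_le (SetLike.coe_subset_coe.mpr hCN))
  have hWcomm : ∀ a ∈ Q, Commute a 𝐲 → ∀ c ∈ W', a * c * a⁻¹ = c ∨ a * c * a⁻¹ = c * 𝐲 := by
    intro a ha hay c hc
    have hcz : Commute c z := Subgroup.mem_centralizer_singleton_iff.mp hc.2
    have h1 : a * c * a⁻¹ * c⁻¹ ∈ 𝐏 := mul_mem (norm' s a hay c hc.1) (inv_mem hc.1)
    have h2 : a * c * a⁻¹ * c⁻¹ ∈ Q := by
      have : a * (c * a⁻¹ * c⁻¹) ∈ Q := mul_mem ha (s.norm c hcz _ (inv_mem ha))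
      simpa [mul_assoc] using this
    rcases hEE _ h2 h1 with h | h
    · exact Or.inl (mul_inv_eq_one.mp h)
    · exact Or.inr ((mul_inv_eq_iff_eq_mul.mp h).trans (hy.comm c hc.1).eq.symm)
  have hr : ∀ a ∈ Q, Commute a 𝐲 → ∀ q ∈ 𝐏, a * q * a⁻¹ * q⁻¹ ∈ 𝐏 ⊓ Subgroup.centralizer (W' : Set G) := by
    intro a ha hay q hq
    have hq' := norm' s a hay q hq
    refine Subgroup.mem_inf.mpr ⟨mul_mem hq' (inv_mem hq),
      Subgroup.mem_centralizer_iff.mpr fun c hc => (chi_eq_zero.mp ?_).eq⟩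
    have hq'' : chi c q⁻¹ = chi c q := by
      have h4 : chi c (q * q⁻¹) = chi c q + chi c q⁻¹ := hy.chi_mul_right hc.1 hq (inv_mem hq)
      rw [mul_inv_cancel, chi_eq_zero.mpr (Commute.one_right c)] at h4
      exact ((CharTwo.add_eq_zero).mp h4.symm).symm
    rw [hy.chi_mul_right hc.1 hq' (inv_mem hq), hq'']
    have hc' : chi c (a * q * a⁻¹) = chi c q := by
      have h5 := chi_conj a c q
      rcases hWcomm a ha hay c hc with h | h
      · rwa [h] at h5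
      · rw [h, hy.chi_mul_left hc.1 hy.mem hq',
          chi_eq_zero.mpr (hy.comm _ hq').symm, add_zero] at h5
        exact h5
    rw [hc']
    exact CharTwo.add_self_eq_zero _
  obtain ⟨a, ha, b, hb, hay, hby, hab⟩ := exists_noncommuting s
  have habz : a * b = z * (b * a) := by
    rcases s.es.conj a ha b hb with h | h
    · exact absurd (mul_inv_eq_iff_eq_mul.mp h) hab
    · calc a * b = (a * b * a⁻¹) * a := by group
        _ = b * z * a := by rw [h]
        _ = z * (b * a) := by rw [(s.es.comm b hb).eq, mul_assoc]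
  have hall : ∀ q ∈ 𝐏, Commute z q := by
    intro q hq
    obtain ⟨hrP, hrC⟩ := hr a ha hay q hq
    obtain ⟨hsP, hsC⟩ := hr b hb hby q hq
    set r := a * q * a⁻¹ * q⁻¹ with hrdef
    set t := b * q * b⁻¹ * q⁻¹ with htdef
    have hrN := hD ⟨hrP, hrC⟩
    have htN := hD ⟨hsP, hsC⟩
    have hrW : r ∈ W' := ⟨hrP, Subgroup.mem_centralizer_singleton_iff.mpr (hNz r hrN).eq.symm⟩
    have htW : t ∈ W' := ⟨hsP, Subgroup.mem_centralizer_singleton_iff.mpr (hNz t htN).eq.symm⟩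
    have hrt : Commute r t := hsC r hrW
    have e1 : (a * b) * q * (a * b)⁻¹ = (a * t * a⁻¹) * r * q := by
      rw [hrdef, htdef]; group
    have e2 : (b * a) * q * (b * a)⁻¹ = (b * r * b⁻¹) * t * q := by
      rw [hrdef, htdef]; group
    have hu : Commute z (b * r * b⁻¹) := by
      rcases hWcomm b hb hby r hrW with h | h <;> rw [h]
      exacts [hNz r hrN, (hNz r hrN).mul_right hzy]
    have e3 : (a * b) * q * (a * b)⁻¹ = (b * r * b⁻¹) * t * (z * q * z⁻¹) := by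
      rw [habz]
      calc z * (b * a) * q * (z * (b * a))⁻¹ = z * ((b * a) * q * (b * a)⁻¹) * z⁻¹ := by group
        _ = z * ((b * r * b⁻¹) * t * q) * z⁻¹ := by rw [e2]
        _ = (z * ((b * r * b⁻¹) * t) * z⁻¹) * (z * q * z⁻¹) := by group
        _ = _ := by rw [mul_inv_eq_iff_eq_mul.mpr (hu.mul_right (hNz t htN)).eq]
    have e4 : z * q * z⁻¹ = ((b * r * b⁻¹) * t)⁻¹ * ((a * t * a⁻¹) * r) * q := by
      rw [mul_assoc _ ((a * t * a⁻¹) * r) q]
      exact eq_inv_mul_iff_mul_eq.mpr (e3.symm.trans e1)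
    have hcy : Commute 𝐲 r := (hy.comm r hrP).symm
    have hcy' : Commute 𝐲 t := (hy.comm t hsP).symm
    have e5 : ((b * r * b⁻¹) * t)⁻¹ * ((a * t * a⁻¹) * r) = 1 ∨
        ((b * r * b⁻¹) * t)⁻¹ * ((a * t * a⁻¹) * r) = 𝐲 :=
      two_cases hrt hcy hcy' hy.sq (hWcomm b hb hby r hrW) (hWcomm a ha hay t htW)
    rcases e5 with h | h <;> rw [h] at e4
    · rw [one_mul] at e4
      exact mul_inv_eq_iff_eq_mul.mp e4
    · exact (hno q hq (e4.trans (hy.comm q hq).eq.symm)).elim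
  rcases cent' s z hall with h | h
  · exact s.es.ne h
  · exact s.ne h.symm

theorem exists_conj_y : ∃ q ∈ Q, q * 𝐲 * q⁻¹ = 𝐲 * z :=
  s.es.exists_conj_ne s.mem (y_ne_one s) s.ne

/-- An element interchanging `z` and `y`. -/
theorem exists_swap [Finite G] : ∃ n : G, n * z * n⁻¹ = 𝐲 ∧ n * 𝐲 * n⁻¹ = z := by
  obtain ⟨q, hq, hqz⟩ := exists_conj_z s
  obtain ⟨q₀, hq₀, hqy⟩ := exists_conj_y s
  have hy := es' s
  have h0 : q₀ * z * q₀⁻¹ = z := mul_inv_eq_iff_eq_mul.mpr (s.es.comm q₀ hq₀)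
  have h1 : q * 𝐲 * q⁻¹ = 𝐲 := mul_inv_eq_iff_eq_mul.mpr (hy.comm q hq)
  refine ⟨q * q₀ * q, ?_, ?_⟩
  · calc q * q₀ * q * z * (q * q₀ * q)⁻¹ = q * (q₀ * (q * z * q⁻¹) * q₀⁻¹) * q⁻¹ := by group
      _ = q * ((q₀ * z * q₀⁻¹) * (q₀ * 𝐲 * q₀⁻¹)) * q⁻¹ := by rw [hqz]; group
      _ = q * (z * (𝐲 * z)) * q⁻¹ := by rw [h0, hqy]
      _ = q * 𝐲 * q⁻¹ := by
        have : z * (𝐲 * z) = 𝐲 := by
          rw [← mul_assoc, (commute_zy s).eq, mul_assoc, s.es.sq, mul_one]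
        rw [this]
      _ = 𝐲 := h1
  · calc q * q₀ * q * 𝐲 * (q * q₀ * q)⁻¹ = q * (q₀ * (q * 𝐲 * q⁻¹) * q₀⁻¹) * q⁻¹ := by group
      _ = (q * 𝐲 * q⁻¹) * (q * z * q⁻¹) := by
        have e : q * (𝐲 * z) * q⁻¹ = (q * 𝐲 * q⁻¹) * (q * z * q⁻¹) := by group
        rw [← e, h1, hqy]
      _ = 𝐲 * (z * 𝐲) := by rw [h1, hqz]
      _ = z := by rw [(commute_zy s).eq, ← mul_assoc, hy.sq, one_mul]

theorem z_mem [Finite G] : z ∈ 𝐏 := by
  obtain ⟨n, hnz, hny⟩ := exists_swap s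
  rw [← conjQ_eq s hnz]
  exact hny ▸ conj_mem s.mem

theorem symm [Finite G] : ∃ n : G, n * z * n⁻¹ = 𝐲 ∧ n * 𝐲 * n⁻¹ = z ∧ Setting 𝐏 𝐲 n ∧
    (𝐏).map (MulAut.conj n).toMonoidHom = Q := by
  obtain ⟨n, hnz, hny⟩ := exists_swap s
  refine ⟨n, hnz, hny, ⟨es' s, cent' s, norm' s, ?_, ?_, ?_⟩, ?_⟩
  · rw [hny]; exact z_mem s
  · rw [hny]; exact Ne.symm s.ne
  · rw [Subgroup.card_map_of_injective (MulAut.conj g).injective]; exact s.big
  · have h1 : n * g * z * (n * g)⁻¹ = (1 : G) * z * (1 : G)⁻¹ := by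
      calc n * g * z * (n * g)⁻¹ = n * 𝐲 * n⁻¹ := by group
        _ = _ := by rw [hny]; group
    have h2 := conjQ_eq s h1
    rw [Subgroup.map_map]
    convert h2 using 1
    · congr 1; ext x; simp [mul_assoc]
    · ext x; simp

omit s in
theorem mem_A {Q : Subgroup G} {y x : G} :
    x ∈ Q ⊓ Subgroup.centralizer ({y} : Set G) ↔ x ∈ Q ∧ Commute x y := by
  rw [Subgroup.mem_inf, Subgroup.mem_centralizer_singleton_iff]; rfl

/-- `Q` normalises `R`. -/
theorem Q_conj_mem_R {q : G} (hq : q ∈ Q) {x : G}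
    (hx : x ∈ (𝐏 ⊓ Subgroup.centralizer ({z} : Set G)) ⊔ (Q ⊓ Subgroup.centralizer ({𝐲} : Set G))) :
    q * x * q⁻¹ ∈ (𝐏 ⊓ Subgroup.centralizer ({z} : Set G)) ⊔
      (Q ⊓ Subgroup.centralizer ({𝐲} : Set G)) := by
  have hA : ∀ a ∈ Q ⊓ Subgroup.centralizer ({𝐲} : Set G),
      q * a * q⁻¹ ∈ Q ⊓ Subgroup.centralizer ({𝐲} : Set G) := by
    intro a ha
    rcases s.es.conj q hq a ha.1 with h | h <;> rw [h]
    · exact ha
    · exact mul_mem ha (mem_A.mpr ⟨s.es.mem, commute_zy s⟩)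
  have hBy : ∀ b ∈ 𝐏 ⊓ Subgroup.centralizer ({z} : Set G),
      q * b * q⁻¹ * b⁻¹ ∈ Q ⊓ Subgroup.centralizer ({𝐲} : Set G) := by
    intro b hb
    obtain ⟨hbP, hbz⟩ := mem_A.mp hb
    have h1 : q * b * q⁻¹ * b⁻¹ = q * (b * q⁻¹ * b⁻¹) := by group
    have hm : b * q⁻¹ * b⁻¹ ∈ Q := s.norm b hbz _ (inv_mem hq)
    rw [h1, mem_A]
    refine ⟨mul_mem hq hm, chi_eq_zero.mp ?_⟩
    have hby : b * 𝐲 * b⁻¹ = 𝐲 := mul_inv_eq_iff_eq_mul.mpr ((es' s).comm b hbP)
    rw [s.es.chi_mul_left hq hm s.mem]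
    have h2 := chi_conj b q⁻¹ 𝐲
    rw [hby] at h2
    rw [h2, ← s.es.chi_mul_left hq (inv_mem hq) s.mem, mul_inv_cancel]
    exact chi_eq_zero.mpr (Commute.one_left _)
  have key : (𝐏 ⊓ Subgroup.centralizer ({z} : Set G)) ⊔ (Q ⊓ Subgroup.centralizer ({𝐲} : Set G)) ≤
      Subgroup.comap (MulEquiv.toMonoidHom (MulAut.conj q))
        ((𝐏 ⊓ Subgroup.centralizer ({z} : Set G)) ⊔ (Q ⊓ Subgroup.centralizer ({𝐲} : Set G))) := by
    refine sup_le ?_ ?_
    · intro b hb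
      show q * b * q⁻¹ ∈ (𝐏 ⊓ Subgroup.centralizer ({z} : Set G)) ⊔
        (Q ⊓ Subgroup.centralizer ({𝐲} : Set G))
      rw [show q * b * q⁻¹ = (q * b * q⁻¹ * b⁻¹) * b by group]
      exact mul_mem (Subgroup.mem_sup_right (hBy b hb)) (Subgroup.mem_sup_left hb)
    · intro a ha
      exact Subgroup.mem_sup_right (hA a ha)
  exact key hx

end Cfsg.Agent.Lib.LargeExtra.TwoConjugate
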