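import Cfsg.Agent.Lib.LargeExtra.TwoConjugate
import Cfsg.Agent.Lib.Coprime.Commutator
import Cfsg.Agent.Lib.PGroups.Frattini
import Cfsg.Agent.Lib.Components.GenFitting
import Cfsg.Agent.S5421

/-!
Large extraspecial subgroups in quotients of centralisers.
-/

set_option autoImplicit false
set_option linter.all false

namespace Cfsg.Agent.Lib.LargeExtra.Quotient

open Cfsg.Agent.Lib.LargeExtraspecial.Basic
open Cfsg.Agent.Lib.LargeExtra.TwoConjugate
open scoped commutatorElement Pointwise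

variable {G : Type*} [Group G] [Finite G]

/-- `F*(C(z)) = Q` extraspecial with a second conjugate of `z` inside gives the standard setting. -/
theorem setting_of_fitting (z : G) (hz : orderOf z = 2) (Q : Subgroup G)
    (hF : (Cfsg.generalizedFittingSubgroup ↥(Subgroup.centralizer ({z} : Set G))).map
      (Subgroup.centralizer ({z} : Set G)).subtype = Q)
    (hQ : Cfsg.IsExtraspecial 2 ↥Q) {g : G} (hgQ : g * z * g⁻¹ ∈ Q) (hne : g * z * g⁻¹ ≠ z)
    (hbig : 16 ≤ Nat.card ↥Q) :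
    (Subgroup.center ↥Q).map Q.subtype = Subgroup.zpowers z ∧ Setting Q z g := by
  set C := Subgroup.centralizer ({z} : Set G) with hC
  set F := Cfsg.generalizedFittingSubgroup ↥C with hFdef
  haveI hFn : F.Normal := Cfsg.Agent.Lib.Components.GenFitting.generalizedFitting_normal
  have hQC : Q ≤ C := hF ▸ Subgroup.map_subtype_le F
  have hcF : ∀ c ∈ C, (∀ q ∈ Q, Commute c q) → c ∈ Q := by
    intro c hc hall
    have h1 : (⟨c, hc⟩ : ↥C) ∈ Subgroup.centralizer (F : Set ↥C) :=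
      Subgroup.mem_centralizer_iff.mpr fun f hf =>
        Subtype.ext (hall f (hF ▸ ⟨f, hf, rfl⟩)).eq.symm
    have h2 := Cfsg.Agent.Lib.Components.GenFitting.centralizer_le h1
    exact hF ▸ ⟨⟨c, hc⟩, h2, rfl⟩
  have hzC : z ∈ C := Subgroup.mem_centralizer_singleton_iff.mpr rfl
  have hzcom : ∀ q ∈ Q, Commute z q := fun q hq =>
    (Subgroup.mem_centralizer_singleton_iff.mp (hQC hq)).symm
  have hzQ : z ∈ Q := hcF z hzC hzcom
  obtain ⟨w, hw2, hwZ⟩ := Cfsg.Agent.Lib.LargeExtra.Basic.exists_z hQ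
  have hzZ : (Subgroup.center ↥Q).map Q.subtype = Subgroup.zpowers z := by
    have h1 : z ∈ (Subgroup.center ↥Q).map Q.subtype :=
      Cfsg.Agent.Lib.LargeExtra.Basic.mem_centerMap.mpr ⟨hzQ, fun q hq => (hzcom q hq).eq.symm⟩
    rw [hwZ] at h1
    rcases Cfsg.Agent.Lib.LargeExtra.Basic.eq_one_or_eq hw2 h1 with h | h
    · simp [h] at hz
    · rw [hwZ, h]
  obtain ⟨hes, -⟩ := es_of hQ hzZ
  refine ⟨hzZ, hes, fun c hc => ?_, fun c hc q hq => ?_, hgQ, hne, hbig⟩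
  · have hcC : c ∈ C := Subgroup.mem_centralizer_singleton_iff.mpr (hc z hzQ).eq
    exact hes.center c (hcF c hcC hc) fun p hp => (hc p hp).symm
  · rw [← hF] at hq ⊢
    obtain ⟨f, hf, rfl⟩ := hq
    exact ⟨⟨c, Subgroup.mem_centralizer_singleton_iff.mpr hc.eq⟩ * f *
      ⟨c, Subgroup.mem_centralizer_singleton_iff.mpr hc.eq⟩⁻¹, hFn.conj_mem f hf _, rfl⟩

/-- A noncentral element of `C_P(t)` is moved inside `C_P(t)`. -/
theorem exists_move_in_centralizer {P : Subgroup G} {z : G} (h : ES P z) {t v : G}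
    (ht : t ∈ P) (hv : v ∈ P) (h1 : v ≠ 1) (h2 : v ≠ z) (h3 : v ≠ t) (h4 : v ≠ z * t)
    (ht2 : t * t = 1) :
    ∃ r ∈ P, Commute r t ∧ r * v * r⁻¹ = v * z := by
  by_contra hcon
  push Not at hcon
  set N := Subgroup.zpowers z ⊔ Subgroup.zpowers t with hN
  have hzN : z ∈ N := Subgroup.mem_sup_left (Subgroup.mem_zpowers z)
  have hNP : N ≤ P := sup_le (Subgroup.zpowers_le.mpr h.mem) (Subgroup.zpowers_le.mpr ht)
  have hvN : v ∈ N := by
    rw [← double_centralizer h hNP hzN]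
    refine ⟨hv, fun r hr => ?_⟩
    have hrt : Commute r t := (hr.2 t (Subgroup.mem_sup_right (Subgroup.mem_zpowers t))).symm
    exact mul_inv_eq_iff_eq_mul.mp ((h.conj r hr.1 v hv).resolve_right (hcon r hr.1 hrt))
  have hn : Subgroup.zpowers t ≤ Subgroup.normalizer ((Subgroup.zpowers z : Subgroup G) : Set G) := by
    rw [Subgroup.zpowers_le]
    apply Subgroup.centralizer_le_normalizer
    rw [Subgroup.mem_centralizer_iff]
    rintro u ⟨k, rfl⟩
    exact ((h.comm t ht).zpow_right k).eq.symm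
  have he : v ∈ ((Subgroup.zpowers z : Subgroup G) : Set G) * ((Subgroup.zpowers t : Subgroup G) : Set G) := by
    rw [← Subgroup.coe_mul_of_right_le_normalizer_left _ _ hn]; exact hvN
  obtain ⟨u, hu, w, hw, rfl⟩ := he
  have hz2 : orderOf z = 2 := orderOf_eq_prime (by rw [sq, h.sq]) h.ne
  rcases eq_or_ne t 1 with rfl | ht1
  · obtain ⟨k, rfl⟩ := hw
    simp only [one_zpow, mul_one] at h1 h2
    exact (Cfsg.Agent.Lib.LargeExtra.Basic.eq_one_or_eq hz2 hu).elim h1 h2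
  have ht2' : orderOf t = 2 := orderOf_eq_prime (by rw [sq, ht2]) ht1
  rcases Cfsg.Agent.Lib.LargeExtra.Basic.eq_one_or_eq hz2 hu with rfl | rfl <;>
    rcases Cfsg.Agent.Lib.LargeExtra.Basic.eq_one_or_eq ht2' hw with rfl | rfl
  · exact h1 (one_mul 1)
  · exact h3 (one_mul _)
  · exact h2 (mul_one _)
  · exact h4 rfl

/-- A noncentral fixed point of a coprime operator group is moved by a fixed point. -/
theorem exists_move_fixed {P A : Subgroup G} {z : G} (h : ES P z) (hP : IsPGroup 2 ↥P)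
    (hA : A ≤ Subgroup.normalizer (P : Set G)) (hAodd : Odd (Nat.card ↥A)) {v : G} (hv : v ∈ P)
    (hvA : ∀ a ∈ A, Commute a v) (h1 : v ≠ 1) (h2 : v ≠ z) :
    ∃ r ∈ P, (∀ a ∈ A, Commute a r) ∧ r * v * r⁻¹ = v * z := by
  haveI : Fact (Nat.Prime 2) := ⟨Nat.prime_two⟩
  obtain ⟨k, hk⟩ := IsPGroup.iff_card.mp hP
  have hcop : (Nat.card ↥A).Coprime (Nat.card ↥P) := by
    rw [hk]
    exact Nat.Coprime.pow_right k (Nat.coprime_two_right.mpr hAodd)
  have hsolv : Group.IsSolvable A ∨ Group.IsSolvable P := Or.inr (by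
    haveI := hP.isNilpotent
    infer_instance)
  have hcv : ⁅P, A⁆ ≤ Subgroup.centralizer ({v} : Set G) := by
    rw [Subgroup.commutator_le]
    intro q hq a ha
    rw [Subgroup.mem_centralizer_singleton_iff, commutatorElement_def]
    have hm : a * q⁻¹ * a⁻¹ ∈ P := (Subgroup.mem_normalizer_iff.mp (hA ha) _).mp (inv_mem hq)
    have e1 : chi v (q * (a * q⁻¹ * a⁻¹)) = 0 := by
      rw [h.chi_mul_right hv hq hm]
      have e2 := chi_conj a v q⁻¹
      rw [mul_inv_eq_iff_eq_mul.mpr (hvA a ha).eq] at e2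
      rw [e2, ← h.chi_mul_right hv hq (inv_mem hq), mul_inv_cancel]
      exact chi_eq_zero.mpr (Commute.one_right v)
    have e3 := (chi_eq_zero.mp e1).eq.symm
    simpa [mul_assoc] using e3
  obtain ⟨q, hq, hqv⟩ := h.exists_conj_ne hv h1 h2
  obtain ⟨n, hn, c, hc, rfl⟩ :=
    Cfsg.Agent.Lib.Coprime.exists_commutator_mul_fixed hA hcop hsolv hq
  obtain ⟨hcP, hcA⟩ := Subgroup.mem_inf.mp hc
  refine ⟨c, hcP, fun a ha => Subgroup.mem_centralizer_iff.mp hcA a ha, ?_⟩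
  rcases h.conj c hcP v hv with h' | h'
  · exfalso
    have hnv : n * v * n⁻¹ = v := mul_inv_eq_iff_eq_mul.mpr (Subgroup.mem_centralizer_singleton_iff.mp (hcv hn))
    have : n * c * v * (n * c)⁻¹ = v := by
      calc n * c * v * (n * c)⁻¹ = n * (c * v * c⁻¹) * n⁻¹ := by group
        _ = v := by rw [h', hnv]
    rw [this, left_eq_mul] at hqv
    exact h.ne hqv
  · exact h'

omit [Finite G] in
/-- The element swapping `z` and `y`. -/
theorem swap_eq {z y r q : G} (hz : z * z = 1) (hy : y * y = 1) (hc : Commute z y)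
    (hrz : r * z * r⁻¹ = z) (hry : r * y * r⁻¹ = y * z) (hqy : q * y * q⁻¹ = y)
    (hqz : q * z * q⁻¹ = z * y) : q * r * q * y * (q * r * q)⁻¹ = z := by
  calc q * r * q * y * (q * r * q)⁻¹ = q * (r * (q * y * q⁻¹) * r⁻¹) * q⁻¹ := by group
    _ = q * (y * z) * q⁻¹ := by rw [hqy, hry]
    _ = (q * y * q⁻¹) * (q * z * q⁻¹) := by group
    _ = y * (z * y) := by rw [hqy, hqz]
    _ = z := by rw [hc.eq, ← mul_assoc, hy, one_mul]

/-- Criterion for the image of `R` modulo `N` to be a large extraspecial subgroup. -/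
theorem large_image {M R : Subgroup G} {Q : Subgroup G} {z y : G} (h : ES Q z)
    (hQ2 : IsPGroup 2 ↥Q) (hRQ : R ≤ Q) (hRM : R ≤ M) (hzR : z ∈ R) (hyR : y ∈ R)
    (N : Subgroup G) [hn : (N.subgroupOf M).Normal]
    (hzN : z ∉ N) (hy2 : y * y = 1) (hyN : y ∉ N) (hyzN : z⁻¹ * y ∉ N)
    (hcent : ∀ c ∈ M, (∀ r ∈ R, c * r * c⁻¹ * r⁻¹ ∈ N) → c ∈ N ∨ z⁻¹ * c ∈ N)
    (hnorm : ∀ c ∈ M, c * z * c⁻¹ * z⁻¹ ∈ N → ∀ r ∈ R, c * r * c⁻¹ ∈ R)
    (T : Subgroup G) (hTM : T ≤ M) (hT2 : IsPGroup 2 ↥T) (hzT : z ∈ T)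
    (hTy : ∀ u ∈ T, Commute u y)
    (hTinv : ∀ c ∈ M, c * y * c⁻¹ * y⁻¹ ∈ N → ∀ u ∈ T, c * u * c⁻¹ ∈ T) :
    Cfsg.IsLargeExtraspecial ((R.subgroupOf M).map (QuotientGroup.mk' (N.subgroupOf M))) := by
  haveI : Fact (Nat.Prime 2) := ⟨Nat.prime_two⟩
  set π := QuotientGroup.mk' (N.subgroupOf M) with hπ
  set P := (R.subgroupOf M).map π with hP
  have hker : ∀ x : ↥M, π x = 1 ↔ (x : G) ∈ N := fun x => QuotientGroup.eq_one_iff x
  have hkeq : ∀ a b : ↥M, π a = π b ↔ (a : G)⁻¹ * b ∈ N := fun a b => QuotientGroup.eq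
  have hcomm : ∀ a b : ↥M, Commute (π a) (π b) ↔ (a : G) * b * (a : G)⁻¹ * (b : G)⁻¹ ∈ N := by
    intro a b
    rw [show (a : G) * b * (a : G)⁻¹ * (b : G)⁻¹ = ((a * b * a⁻¹ * b⁻¹ : ↥M) : G) from rfl, ← hker,
      map_mul, map_mul, map_mul, map_inv, map_inv, mul_inv_eq_one, mul_inv_eq_iff_eq_mul]
    rfl
  set zM : ↥M := ⟨z, hRM hzR⟩ with hzMdef
  set yM : ↥M := ⟨y, hRM hyR⟩ with hyMdef
  have hzP : π zM ∈ P := ⟨zM, hzR, rfl⟩
  have hyP : π yM ∈ P := ⟨yM, hyR, rfl⟩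
  have hzbar : π zM ≠ 1 := fun h1 => hzN ((hker zM).mp h1)
  have hz2 : π zM * π zM = 1 := by
    rw [← map_mul, hker]; show z * z ∈ N; rw [h.sq]; exact one_mem _
  have hC : ∀ x, (∀ p ∈ P, Commute x p) → x = 1 ∨ x = π zM := by
    intro x hx
    obtain ⟨⟨c, hc⟩, rfl⟩ := QuotientGroup.mk'_surjective (N.subgroupOf M) x
    rcases hcent c hc (fun r hr => (hcomm ⟨c, hc⟩ ⟨r, hRM hr⟩).mp (hx _ ⟨⟨r, hRM hr⟩, hr, rfl⟩)) with h1 | h1
    · exact Or.inl ((hker ⟨c, hc⟩).mpr h1)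
    · exact Or.inr (((hkeq zM ⟨c, hc⟩).mpr h1).symm)
  have hzc : ∀ p ∈ P, Commute p (π zM) := by
    rintro _ ⟨⟨r, hrM⟩, hr, rfl⟩
    exact (
      (show Commute (⟨r, hrM⟩ : ↥M) zM from Subtype.ext (h.comm r (hRQ hr)).eq).map π)
  have hPcenter : (Subgroup.center ↥P).map P.subtype = Subgroup.zpowers (π zM) := by
    refine le_antisymm ?_ (Subgroup.zpowers_le.mpr
      (Cfsg.Agent.Lib.LargeExtra.Basic.mem_centerMap.mpr ⟨hzP, fun p hp => (hzc p hp).eq⟩))
    intro x hx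
    obtain ⟨hxP, hxc⟩ := Cfsg.Agent.Lib.LargeExtra.Basic.mem_centerMap.mp hx
    rcases hC x (fun p hp => (hxc p hp).symm) with h1 | h1 <;> rw [h1]
    exacts [one_mem _, Subgroup.mem_zpowers _]
  have hord : orderOf (π zM) = 2 := orderOf_eq_prime (by rw [pow_two]; exact hz2) hzbar
  have hbnot : π yM ∉ Subgroup.zpowers (π zM) := by
    intro h1
    rcases Cfsg.Agent.Lib.LargeExtra.Basic.eq_one_or_eq hord h1 with h2 | h2
    · exact hyN ((hker yM).mp h2)
    · exact hyzN ((hkeq zM yM).mp h2.symm)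
  have hP2 : IsPGroup 2 ↥P := (((hQ2.to_le hRQ).comap_subtype (K := M))).map π
  have hcen : ∀ x : ↥P, x ∈ Subgroup.center ↥P ↔ ((x : ↥M ⧸ N.subgroupOf M) = 1 ∨
      (x : ↥M ⧸ N.subgroupOf M) = π zM) := by
    intro x
    constructor
    · exact fun hx => Cfsg.Agent.Lib.LargeExtra.Basic.eq_one_or_eq hord
        (hPcenter ▸ Subgroup.mem_map_of_mem P.subtype hx)
    · intro hx
      have h1 : (x : ↥M ⧸ N.subgroupOf M) ∈ (Subgroup.center ↥P).map P.subtype := by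
        rw [hPcenter]
        rcases hx with h1 | h1 <;> rw [h1]
        exacts [one_mem _, Subgroup.mem_zpowers _]
      obtain ⟨x', hx', he⟩ := h1
      exact Subtype.ext (show (x' : ↥M ⧸ N.subgroupOf M) = x from he) ▸ hx'
  have hcases : ∀ a ∈ R, ∀ b ∈ R, a * b * a⁻¹ * b⁻¹ = 1 ∨ a * b * a⁻¹ * b⁻¹ = z := by
    intro a ha b hb
    rcases h.conj a (hRQ ha) b (hRQ hb) with h1 | h1 <;> rw [h1]
    · exact Or.inl (mul_inv_cancel b)
    · exact Or.inr (by rw [(h.comm b (hRQ hb)).eq, mul_inv_cancel_right])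
  have hcin : ∀ x w : ↥P, ⁅x, w⁆ ∈ Subgroup.center ↥P := by
    rintro ⟨_, a, ha, rfl⟩ ⟨_, b, hb, rfl⟩
    rw [hcen]
    show π a * π b * (π a)⁻¹ * (π b)⁻¹ = 1 ∨ π a * π b * (π a)⁻¹ * (π b)⁻¹ = π zM
    simp only [← map_mul, ← map_inv]
    rcases hcases a ha b hb with h1 | h1
    · exact Or.inl ((congrArg π (Subtype.ext h1 : a * b * a⁻¹ * b⁻¹ = 1)).trans (map_one π))
    · exact Or.inr (congrArg π (Subtype.ext h1 : a * b * a⁻¹ * b⁻¹ = zM))
  have hder : commutator ↥P = Subgroup.center ↥P := by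
    refine le_antisymm (Subgroup.commutator_le.mpr fun x _ w _ => hcin x w) fun x hx => ?_
    rcases (hcen x).mp hx with h1 | h1
    · rw [show x = 1 from Subtype.ext h1]; exact one_mem _
    · obtain ⟨p, hp, hpy⟩ : ∃ p ∈ P, ¬ Commute p (π yM) := by
        by_contra hcon
        push Not at hcon
        refine hbnot ?_
        rcases hC (π yM) (fun p hp => (hcon p hp).symm) with h2 | h2 <;> rw [h2]
        exacts [one_mem _, Subgroup.mem_zpowers _]
      have h2 : ⁅(⟨p, hp⟩ : ↥P), ⟨π yM, hyP⟩⁆ = x := by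
        rcases (hcen _).mp (hcin ⟨p, hp⟩ ⟨π yM, hyP⟩) with h2 | h2
        · exact absurd (commutatorElement_eq_one_iff_mul_comm.mp h2) hpy
        · exact Subtype.ext (h2.trans h1.symm)
      exact h2 ▸ Subgroup.commutator_mem_commutator (Subgroup.mem_top _) (Subgroup.mem_top _)
  have hext : Cfsg.IsExtraspecial 2 ↥P := by
    refine ⟨⟨hP2, le_antisymm ?_ ?_, hder⟩, ?_⟩
    · refine Cfsg.Agent.Lib.PGroups.frattini_le_of_pow_commutator (p := 2) _ ?_ hder.le
      rintro ⟨_, a, ha, rfl⟩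
      rw [hcen]
      show π a ^ 2 = 1 ∨ π a ^ 2 = π zM
      rw [← map_pow, pow_two]
      rcases h.sq_cases (hRQ ha) with h1 | h1
      · exact Or.inl ((congrArg π (Subtype.ext h1 : a * a = 1)).trans (map_one π))
      · exact Or.inr (congrArg π (Subtype.ext h1 : a * a = zM))
    · rw [← hder]
      exact Cfsg.Agent.Lib.PGroups.commutator_le_frattini (p := 2) hP2
    · rw [← Subgroup.card_map_of_injective (K := Subgroup.center ↥P) P.subtype_injective, hPcenter,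
        Nat.card_zpowers, hord]
  refine Cfsg.Agent.S5421.result P hext ?_ ?_ (π yM) hyP (hPcenter ▸ hbnot) ?_ ?_
  · rw [hPcenter]
    refine le_antisymm (fun x hx => ?_) (Subgroup.zpowers_le.mpr
      (Subgroup.mem_centralizer_iff.mpr fun p hp => (hzc p hp).eq))
    rcases hC x (fun p hp => (Subgroup.mem_centralizer_iff.mp hx p hp).symm) with h1 | h1 <;> rw [h1]
    exacts [one_mem _, Subgroup.mem_zpowers _]
  · rw [hPcenter]
    intro x hx
    obtain ⟨c, rfl⟩ := QuotientGroup.mk'_surjective (N.subgroupOf M) x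
    have h1 : Commute (π c) (π zM) := (Subgroup.mem_centralizer_iff.mp hx _ (Subgroup.mem_zpowers _)).symm
    refine Subgroup.mem_normalizer_fintype ?_
    rintro _ ⟨a, ha, rfl⟩
    refine ⟨c * a * c⁻¹, hnorm c c.2 ((hcomm c zM).mp h1) a ha, ?_⟩
    simp only [map_mul, map_inv]
    rfl
  · refine orderOf_eq_prime ?_ (fun h1 => hyN ((hker yM).mp h1))
    rw [← map_pow, hker]
    show y ^ 2 ∈ N
    rw [pow_two, hy2]; exact one_mem _
  · rw [hPcenter, Subgroup.zpowers_le]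
    set Cb := Subgroup.centralizer ({π yM} : Set (↥M ⧸ N.subgroupOf M)) with hCb
    have hTC : (T.subgroupOf M).map π ≤ Cb := by
      rintro _ ⟨u, hu, rfl⟩
      exact Subgroup.mem_centralizer_singleton_iff.mpr
        ((show Commute u yM from Subtype.ext (hTy u hu).eq).map π).eq
    refine ⟨⟨π zM, hTC ⟨zM, hzT, rfl⟩⟩, ?_, rfl⟩
    refine le_sSup (show ((T.subgroupOf M).map π).subgroupOf Cb ∈
      {K : Subgroup ↥Cb | K.Normal ∧ IsPGroup 2 K} from ⟨⟨?_⟩, ?_⟩) ⟨zM, hzT, rfl⟩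
    · rintro ⟨u, huC⟩ hu c
      obtain ⟨d, hd⟩ := QuotientGroup.mk'_surjective (N.subgroupOf M) (c : ↥M ⧸ N.subgroupOf M)
      obtain ⟨u', hu', hue⟩ := hu
      have hdc : Commute (π d) (π yM) := by
        rw [show π d = (c : ↥M ⧸ N.subgroupOf M) from hd]
        exact Subgroup.mem_centralizer_singleton_iff.mp c.2
      refine ⟨d * u' * d⁻¹, hTinv d d.2 ((hcomm d yM).mp hdc) u' hu', ?_⟩
      show π (d * u' * d⁻¹) = (c : ↥M ⧸ N.subgroupOf M) * u * (c : ↥M ⧸ N.subgroupOf M)⁻¹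
      simp only [map_mul, map_inv, show π d = (c : ↥M ⧸ N.subgroupOf M) from hd,
        show π u' = u from hue]
    · exact ((hT2.comap_subtype (K := M)).map π).comap_subtype

end Cfsg.Agent.Lib.LargeExtra.Quotient
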