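import Cfsg.Agent.Lib.LargeExtra.TwoConjugate

/-!
The action on the three involutions of the four-group `⟨z, y⟩`, and the group `X = ⟨Q, gQg⁻¹⟩`.
-/

set_option autoImplicit false
set_option linter.all false

namespace Cfsg.Agent.Lib.LargeExtra.FourGroup

open Cfsg.Agent.Lib.LargeExtraspecial.Basic
open Cfsg.Agent.Lib.LargeExtra.TwoConjugate

variable {G : Type*} [Group G]

theorem perm_three : ∀ σ : Equiv.Perm (Fin 3), σ = 1 ∨ σ = Equiv.swap 1 2 ∨ σ = Equiv.swap 0 2 ∨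
    σ = Equiv.swap 1 2 * Equiv.swap 0 2 ∨ σ = Equiv.swap 0 2 * Equiv.swap 1 2 ∨
    σ = Equiv.swap 1 2 * Equiv.swap 0 2 * Equiv.swap 1 2 := by decide

theorem perm_center : ∀ σ : Equiv.Perm (Fin 3), (∀ τ : Equiv.Perm (Fin 3), τ * σ * τ⁻¹ = σ) → σ = 1 := by
  decide

/-- A normal 2-subgroup of `S₃` is trivial. -/
theorem normal_two_eq_bot (N : Subgroup (Equiv.Perm (Fin 3))) [N.Normal] (h : IsPGroup 2 N) :
    N = ⊥ := by
  haveI : Fact (Nat.Prime 2) := ⟨Nat.prime_two⟩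
  obtain ⟨k, hk⟩ := IsPGroup.iff_card.mp h
  have hd := Subgroup.card_subgroup_dvd_card N
  rw [hk, Nat.card_eq_fintype_card, Fintype.card_perm, Fintype.card_fin] at hd
  norm_num [Nat.factorial] at hd
  have h2 : Nat.card N ≤ 2 := by
    rw [hk]
    rcases k with _ | _ | k
    · norm_num
    · norm_num
    · exfalso
      have : (4 : ℕ) ∣ 6 := dvd_trans (by rw [pow_succ, pow_succ]; exact ⟨2 ^ k, by ring⟩) hd
      norm_num at this
  rw [Subgroup.eq_bot_iff_forall]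
  intro σ hσ
  by_contra hne
  refine hne (perm_center σ fun τ => ?_)
  by_contra hc
  have hτ : τ * σ * τ⁻¹ ∈ N := Subgroup.Normal.conj_mem inferInstance σ hσ τ
  have h3 : ({1, σ, τ * σ * τ⁻¹} : Set (Equiv.Perm (Fin 3))) ⊆ (N : Set (Equiv.Perm (Fin 3))) := by
    intro a ha
    rcases ha with rfl | rfl | rfl
    exacts [one_mem _, hσ, hτ]
  have h4 : ({1, σ, τ * σ * τ⁻¹} : Set (Equiv.Perm (Fin 3))).ncard = 3 := by
    rw [Set.ncard_eq_three]
    exact ⟨1, σ, τ * σ * τ⁻¹, Ne.symm hne, fun h => hne (by simpa using h.symm), Ne.symm hc, rfl⟩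
  have h5 := Set.ncard_le_ncard h3 (Set.toFinite _)
  rw [h4] at h5
  have : (N : Set (Equiv.Perm (Fin 3))).ncard = Nat.card N := (Nat.card_coe_set_eq _).symm
  omega

variable {Q : Subgroup G} {z g : G} (s : Setting Q z g)
include s

local notation "𝐲" => g * z * g⁻¹
local notation "𝐏" => Subgroup.map (MulEquiv.toMonoidHom (MulAut.conj g)) Q
local notation "𝐕" => Subgroup.zpowers z ⊔ Subgroup.zpowers (g * z * g⁻¹)
set_option quotPrecheck false in
local notation "𝐑" => (Subgroup.map (MulEquiv.toMonoidHom (MulAut.conj g)) Q ⊓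
  Subgroup.centralizer ({z} : Set G)) ⊔ (Q ⊓ Subgroup.centralizer ({g * z * g⁻¹} : Set G))

theorem mem_V : z ∈ 𝐕 ∧ 𝐲 ∈ 𝐕 :=
  ⟨Subgroup.mem_sup_left (Subgroup.mem_zpowers z), Subgroup.mem_sup_right (Subgroup.mem_zpowers _)⟩

omit s in
theorem mem_centralizer_V {x : G} :
    x ∈ Subgroup.centralizer ((𝐕 : Subgroup G) : Set G) ↔ Commute x z ∧ Commute x 𝐲 := by
  constructor
  · intro h
    exact ⟨(h z (Subgroup.mem_sup_left (Subgroup.mem_zpowers z))).symm,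
      (h 𝐲 (Subgroup.mem_sup_right (Subgroup.mem_zpowers _))).symm⟩
  · rintro ⟨h1, h2⟩
    have hle : (𝐕 : Subgroup G) ≤ Subgroup.centralizer ({x} : Set G) :=
      sup_le (Subgroup.zpowers_le.mpr (Subgroup.mem_centralizer_singleton_iff.mpr h1.eq.symm))
        (Subgroup.zpowers_le.mpr (Subgroup.mem_centralizer_singleton_iff.mpr h2.eq.symm))
    exact fun v hv => Subgroup.mem_centralizer_singleton_iff.mp (hle hv)

omit s in
theorem mem_normalizer_V [Finite G] {x : G} (h1 : x * z * x⁻¹ ∈ 𝐕) (h2 : x * 𝐲 * x⁻¹ ∈ 𝐕) :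
    x ∈ Subgroup.normalizer ((𝐕 : Subgroup G) : Set G) := by
  have hle : (𝐕 : Subgroup G).map (MulAut.conj x).toMonoidHom ≤ 𝐕 := by
    rw [Subgroup.map_le_iff_le_comap]
    exact sup_le (Subgroup.zpowers_le.mpr h1) (Subgroup.zpowers_le.mpr h2)
  rw [Subgroup.mem_normalizer_iff_map_conj_eq]
  exact Subgroup.eq_of_le_of_card_ge hle
    (by rw [Subgroup.card_map_of_injective (MulAut.conj x).injective])

theorem Q_le_normalizer [Finite G] :
    Q ≤ Subgroup.normalizer ((𝐕 : Subgroup G) : Set G) := by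
  intro q hq
  refine mem_normalizer_V ?_ ?_
  · rw [mul_inv_eq_iff_eq_mul.mpr (s.es.comm q hq).eq]; exact (mem_V s).1
  · rcases s.es.conj q hq _ s.mem with h | h <;> rw [h]
    exacts [(mem_V s).2, mul_mem (mem_V s).2 (mem_V s).1]

theorem P_le_normalizer [Finite G] :
    𝐏 ≤ Subgroup.normalizer ((𝐕 : Subgroup G) : Set G) := by
  intro q hq
  refine mem_normalizer_V ?_ ?_
  · rcases (es' s).conj q hq _ (z_mem s) with h | h <;> rw [h]
    exacts [(mem_V s).1, mul_mem (mem_V s).1 (mem_V s).2]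
  · rw [mul_inv_eq_iff_eq_mul.mpr ((es' s).comm q hq).eq]; exact (mem_V s).2

/-- `H ≤ N(V)` containing `q₀` (moving `y` to `yz`) and `q` (moving `z` to `zy`) induces `S₃`. -/
theorem exists_perm_hom [Finite G] (H : Subgroup G)
    (hH : H ≤ Subgroup.normalizer ((𝐕 : Subgroup G) : Set G)) (hQH : Q ≤ H) (hPH : 𝐏 ≤ H) :
    ∃ ψ : ↥H →* Equiv.Perm (Fin 3), Function.Surjective ψ ∧
      ψ.ker = (Subgroup.centralizer ((𝐕 : Subgroup G) : Set G)).subgroupOf H := by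
  set f : Fin 3 → G := ![z, 𝐲, z * 𝐲] with hf
  have hy := es' s
  have hzy : z * 𝐲 ≠ 1 := fun h => s.ne ((eq_inv_of_mul_eq_one_right h).trans s.es.zinv)
  have finj : Function.Injective f := by
    intro i j hij
    fin_cases i <;> fin_cases j <;> simp only [hf, Matrix.cons_val_zero, Matrix.cons_val_one,
      Matrix.cons_val] at hij ⊢ <;>
      first
        | rfl
        | exact absurd hij.symm s.ne
        | exact absurd hij s.ne
        | exact absurd (mul_eq_left.mp hij) (y_ne_one s)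
        | exact absurd (mul_eq_left.mp hij.symm) (y_ne_one s)
        | exact absurd (mul_eq_right.mp hij) s.es.ne
        | exact absurd (mul_eq_right.mp hij.symm) s.es.ne
  have fV : ∀ i, f i ∈ 𝐕 := by
    intro i; fin_cases i
    exacts [(mem_V s).1, (mem_V s).2, mul_mem (mem_V s).1 (mem_V s).2]
  have f1 : ∀ i, f i ≠ 1 := by
    intro i; fin_cases i
    exacts [s.es.ne, y_ne_one s, hzy]
  have hex : ∀ (h : ↥H) (i : Fin 3), ∃ j, (h : G) * f i * (h : G)⁻¹ = f j := by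
    intro h i
    have hm := (Subgroup.mem_normalizer_iff.mp (hH h.2) (f i)).mp (fV i)
    rcases four_cases s hm with h' | h' | h' | h'
    · exfalso; apply f1 i; simpa using h'
    · exact ⟨0, h'⟩
    · exact ⟨1, h'⟩
    · exact ⟨2, h'⟩
  choose σ hσ using hex
  have hinj : ∀ h : ↥H, Function.Injective (σ h) := by
    intro h i j hij
    apply finj
    have := (hσ h i).trans ((congrArg f hij).trans (hσ h j).symm)
    exact mul_left_cancel (mul_right_cancel this)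
  let ψ : ↥H →* Equiv.Perm (Fin 3) := MonoidHom.mk'
    (fun h => Equiv.ofBijective (σ h) (Finite.injective_iff_bijective.mp (hinj h))) (by
      intro a b
      ext i
      simp only [Equiv.ofBijective_apply, Equiv.Perm.coe_mul, Function.comp_apply]
      congr 1
      apply finj
      rw [← hσ, ← hσ a, ← hσ b, Subgroup.coe_mul]
      group)
  have hψ : ∀ h i, ψ h i = σ h i := fun h i => rfl
  refine ⟨ψ, ?_, ?_⟩
  · obtain ⟨q, hq, hqz⟩ := exists_conj_z s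
    obtain ⟨q₀, hq₀, hqy⟩ := exists_conj_y s
    have hzy' : Commute z 𝐲 := commute_zy s
    have a0 : q₀ * z * q₀⁻¹ = z := mul_inv_eq_iff_eq_mul.mpr (s.es.comm q₀ hq₀).eq
    have b1 : q * 𝐲 * q⁻¹ = 𝐲 := mul_inv_eq_iff_eq_mul.mpr (hy.comm q hq).eq
    have e0 : ψ ⟨q₀, hQH hq₀⟩ = Equiv.swap 1 2 := by
      ext i
      congr 1
      apply finj
      rw [hψ, ← hσ]
      fin_cases i
      · exact a0
      · exact hqy.trans hzy'.eq.symm
      · show q₀ * (z * 𝐲) * q₀⁻¹ = 𝐲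
        calc q₀ * (z * 𝐲) * q₀⁻¹ = (q₀ * z * q₀⁻¹) * (q₀ * 𝐲 * q₀⁻¹) := by group
          _ = z * (𝐲 * z) := by rw [a0, hqy]
          _ = 𝐲 := by rw [← mul_assoc, hzy'.eq, mul_assoc, s.es.sq, mul_one]
    have e1 : ψ ⟨q, hPH hq⟩ = Equiv.swap 0 2 := by
      ext i
      congr 1
      apply finj
      rw [hψ, ← hσ]
      fin_cases i
      · exact hqz
      · exact b1
      · show q * (z * 𝐲) * q⁻¹ = z
        calc q * (z * 𝐲) * q⁻¹ = (q * z * q⁻¹) * (q * 𝐲 * q⁻¹) := by group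
          _ = z * 𝐲 * 𝐲 := by rw [b1, hqz]
          _ = z := by rw [mul_assoc, hy.sq, mul_one]
    intro π
    rcases perm_three π with rfl | rfl | rfl | rfl | rfl | rfl
    · exact ⟨1, map_one ψ⟩
    · exact ⟨_, e0⟩
    · exact ⟨_, e1⟩
    · exact ⟨⟨q₀, hQH hq₀⟩ * ⟨q, hPH hq⟩, by rw [map_mul, e0, e1]⟩
    · exact ⟨⟨q, hPH hq⟩ * ⟨q₀, hQH hq₀⟩, by rw [map_mul, e0, e1]⟩
    · exact ⟨⟨q₀, hQH hq₀⟩ * ⟨q, hPH hq⟩ * ⟨q₀, hQH hq₀⟩, by rw [map_mul, map_mul, e0, e1]⟩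
  · ext h
    rw [MonoidHom.mem_ker, Subgroup.mem_subgroupOf, mem_centralizer_V]
    constructor
    · intro h1
      have key : ∀ i, (h : G) * f i * (h : G)⁻¹ = f i := fun i => by
        rw [hσ, ← hψ, h1]; rfl
      exact ⟨mul_inv_eq_iff_eq_mul.mp (key 0), mul_inv_eq_iff_eq_mul.mp (key 1)⟩
    · rintro ⟨h1, h2⟩
      ext i
      congr 1
      apply finj
      rw [hψ, ← hσ]
      refine mul_inv_eq_iff_eq_mul.mpr ?_
      fin_cases i
      exacts [h1.eq, h2.eq, (h1.mul_right h2).eq]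

theorem relIndex_six [Finite G] :
    (Subgroup.centralizer ((𝐕 : Subgroup G) : Set G)).relIndex
      (Subgroup.normalizer ((𝐕 : Subgroup G) : Set G)) = 6 := by
  obtain ⟨ψ, hs, hk⟩ := exists_perm_hom s _ le_rfl (Q_le_normalizer s) (P_le_normalizer s)
  show Subgroup.index _ = 6
  rw [← hk, Subgroup.index_ker, MonoidHom.range_eq_top.mpr hs, Subgroup.card_top,
    Nat.card_eq_fintype_card, Fintype.card_perm, Fintype.card_fin]
  rfl

theorem R_le_centralizer : 𝐑 ≤ Subgroup.centralizer ((𝐕 : Subgroup G) : Set G) := by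
  refine sup_le (fun x hx => ?_) (fun x hx => ?_)
  · exact mem_centralizer_V.mpr ⟨(mem_A.mp hx).2, (es' s).comm x hx.1⟩
  · exact mem_centralizer_V.mpr ⟨s.es.comm x hx.1, (mem_A.mp hx).2⟩

theorem R_le_X : 𝐑 ≤ Q ⊔ 𝐏 :=
  sup_le (inf_le_left.trans le_sup_right) (inf_le_left.trans le_sup_left)

/-- `X` normalises `R`. -/
theorem conj_mem_R [Finite G] {x r : G} (hx : x ∈ Q ⊔ 𝐏) (hr : r ∈ 𝐑) : x * r * x⁻¹ ∈ 𝐑 := by
  obtain ⟨n, hnz, hny, s', hmap⟩ := symm s
  have hQ : ∀ q ∈ Q, ∀ r ∈ 𝐑, q * r * q⁻¹ ∈ 𝐑 := fun q hq r hr => Q_conj_mem_R s hq hr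
  have hP : ∀ q ∈ 𝐏, ∀ r ∈ 𝐑, q * r * q⁻¹ ∈ 𝐑 := by
    intro q hq r hr
    have h := Q_conj_mem_R s' hq (x := r)
    rw [hmap, hny, sup_comm] at h
    exact h hr
  have hle : Q ⊔ 𝐏 ≤ Subgroup.normalizer ((𝐑 : Subgroup G) : Set G) := by
    refine sup_le (fun q hq => ?_) (fun q hq => ?_) <;> rw [Subgroup.mem_normalizer_iff] <;>
      intro r
    · exact ⟨hQ q hq r, fun h => by simpa [mul_assoc] using hQ q⁻¹ (inv_mem hq) _ h⟩
    · exact ⟨hP q hq r, fun h => by simpa [mul_assoc] using hP q⁻¹ (inv_mem hq) _ h⟩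
  exact (Subgroup.mem_normalizer_iff.mp (hle hx) r).mp hr

theorem Q_split {q₀ : G} (hq₀ : q₀ ∈ Q) (hqy : q₀ * 𝐲 * q₀⁻¹ = 𝐲 * z) {a : G} (ha : a ∈ Q) :
    a ∈ 𝐑 ∨ q₀⁻¹ * a ∈ 𝐑 := by
  rcases s.es.conj a ha _ s.mem with h | h
  · exact Or.inl (Subgroup.mem_sup_right (mem_A.mpr ⟨ha, mul_inv_eq_iff_eq_mul.mp h⟩))
  · refine Or.inr (Subgroup.mem_sup_right (mem_A.mpr ⟨mul_mem (inv_mem hq₀) ha, ?_⟩))
    refine mul_inv_eq_iff_eq_mul.mp (?_ : q₀⁻¹ * a * 𝐲 * (q₀⁻¹ * a)⁻¹ = 𝐲)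
    calc q₀⁻¹ * a * 𝐲 * (q₀⁻¹ * a)⁻¹ = q₀⁻¹ * (a * 𝐲 * a⁻¹) * q₀ := by group
      _ = q₀⁻¹ * (q₀ * 𝐲 * q₀⁻¹) * q₀ := by rw [h, hqy]
      _ = 𝐲 := by group

theorem P_split [Finite G] {q : G} (hq : q ∈ 𝐏) (hqz : q * z * q⁻¹ = z * 𝐲) {b : G} (hb : b ∈ 𝐏) :
    b ∈ 𝐑 ∨ q⁻¹ * b ∈ 𝐑 := by
  rcases (es' s).conj b hb _ (z_mem s) with h | h
  · exact Or.inl (Subgroup.mem_sup_left (mem_A.mpr ⟨hb, mul_inv_eq_iff_eq_mul.mp h⟩))
  · refine Or.inr (Subgroup.mem_sup_left (mem_A.mpr ⟨mul_mem (inv_mem hq) hb, ?_⟩))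
    refine mul_inv_eq_iff_eq_mul.mp (?_ : q⁻¹ * b * z * (q⁻¹ * b)⁻¹ = z)
    calc q⁻¹ * b * z * (q⁻¹ * b)⁻¹ = q⁻¹ * (b * z * b⁻¹) * q := by group
      _ = q⁻¹ * (q * z * q⁻¹) * q := by rw [h, hqz]
      _ = z := by group

/-- `X ∩ C(V) = R`. -/
theorem X_inf_centralizer [Finite G] :
    (Q ⊔ 𝐏) ⊓ Subgroup.centralizer ((𝐕 : Subgroup G) : Set G) = 𝐑 := by
  refine le_antisymm ?_ (le_inf (R_le_X s) (R_le_centralizer s))
  obtain ⟨q, hq, hqz⟩ := exists_conj_z s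
  obtain ⟨q₀, hq₀, hqy⟩ := exists_conj_y s
  set X := Q ⊔ 𝐏 with hX
  have hqX : q ∈ X := Subgroup.mem_sup_right hq
  have hq₀X : q₀ ∈ X := Subgroup.mem_sup_left hq₀
  obtain ⟨ψ, hψs, hψk⟩ := exists_perm_hom s X (sup_le (Q_le_normalizer s) (P_le_normalizer s))
    le_sup_left le_sup_right
  let R' : Subgroup ↥X := (𝐑 : Subgroup G).subgroupOf X
  haveI : R'.Normal := ⟨fun r hr x => conj_mem_R s x.2 hr⟩
  let π := QuotientGroup.mk' R'
  set u := π ⟨q₀, hq₀X⟩ with hu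
  set v := π ⟨q, hqX⟩ with hv
  have hlift : ∀ x : ↥X, (x : G) ∈ 𝐑 → π x = 1 := fun x hx => (QuotientGroup.eq_one_iff x).mpr hx
  have huQ : ∀ x : ↥X, (x : G) ∈ Q → π x = 1 ∨ π x = u := by
    intro x hx
    rcases Q_split s hq₀ hqy hx with h | h
    · exact Or.inl (hlift x h)
    · right
      have h2 : π (⟨q₀, hq₀X⟩⁻¹ * x) = 1 := hlift _ h
      rw [map_mul, map_inv, inv_mul_eq_one] at h2
      exact h2.symm
  have hvP : ∀ x : ↥X, (x : G) ∈ 𝐏 → π x = 1 ∨ π x = v := by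
    intro x hx
    rcases P_split s hq hqz hx with h | h
    · exact Or.inl (hlift x h)
    · right
      have h2 : π (⟨q, hqX⟩⁻¹ * x) = 1 := hlift _ h
      rw [map_mul, map_inv, inv_mul_eq_one] at h2
      exact h2.symm
  have hu2 : u * u = 1 := by
    rw [hu, ← map_mul]
    refine hlift _ (Subgroup.mem_sup_right (mem_A.mpr ⟨mul_mem hq₀ hq₀, ?_⟩))
    show Commute (q₀ * q₀) 𝐲
    rcases s.es.sq_cases hq₀ with h | h <;> rw [h]
    exacts [Commute.one_left _, commute_zy s]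
  have hv2 : v * v = 1 := by
    rw [hv, ← map_mul]
    refine hlift _ (Subgroup.mem_sup_left (mem_A.mpr ⟨mul_mem hq hq, ?_⟩))
    show Commute (q * q) z
    rcases (es' s).sq_cases hq with h | h <;> rw [h]
    exacts [Commute.one_left _, (commute_zy s).symm]
  -- the braid relation
  have hqinv : v⁻¹ = v := inv_eq_of_mul_eq_one_right hv2
  have huinv : u⁻¹ = u := inv_eq_of_mul_eq_one_right hu2
  have hbraid : v * u * v = u * v * u := by
    have hconj : Q.map (MulAut.conj q).toMonoidHom = (𝐏).map (MulAut.conj q₀).toMonoidHom := by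
      rw [Subgroup.map_map]
      have h1 : q * z * q⁻¹ = q₀ * g * z * (q₀ * g)⁻¹ := by
        calc q * z * q⁻¹ = 𝐲 * z := by rw [hqz]; exact (commute_zy s).eq
          _ = q₀ * 𝐲 * q₀⁻¹ := hqy.symm
          _ = _ := by group
      rw [conjQ_eq s h1]
      congr 1
      ext x; simp [mul_assoc]
    obtain ⟨b, hb, hbe⟩ : q * q₀ * q⁻¹ ∈ (𝐏).map (MulAut.conj q₀).toMonoidHom :=
      hconj ▸ conj_mem hq₀
    have he : π ⟨q, hqX⟩ * π ⟨q₀, hq₀X⟩ * (π ⟨q, hqX⟩)⁻¹ =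
        π ⟨q₀, hq₀X⟩ * π ⟨b, Subgroup.mem_sup_right hb⟩ * (π ⟨q₀, hq₀X⟩)⁻¹ := by
      simp only [← map_mul, ← map_inv]
      congr 1
      exact Subtype.ext hbe.symm
    rw [← hu, ← hv, hqinv, huinv] at he
    rcases hvP ⟨b, Subgroup.mem_sup_right hb⟩ hb with h | h <;> rw [h] at he
    · -- `q₀` would centralise `V`
      rw [mul_one, hu2] at he
      have h1 : v * u * v = 1 := he
      have h2 : u = 1 := by
        calc u = (v * v) * u * (v * v) := by rw [hv2, one_mul, mul_one]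
          _ = v * (v * u * v) * v := by group
          _ = 1 := by rw [h1, mul_one, hv2]
      have h3 : q₀ ∈ 𝐑 := (QuotientGroup.eq_one_iff (⟨q₀, hq₀X⟩ : ↥X)).mp h2
      have h4 := (mem_centralizer_V.mp (R_le_centralizer s h3)).2
      rw [mul_inv_eq_iff_eq_mul.mpr h4.eq, left_eq_mul] at hqy
      exact absurd hqy s.es.ne
    · exact he
  have cases6 : ∀ x ∈ X, ∀ hx : x ∈ X, π ⟨x, hx⟩ ∈
      ({1, u, v, u * v, v * u, u * v * u} : Set (↥X ⧸ R')) := by
    intro x hx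
    rw [hX, Subgroup.sup_eq_closure] at hx
    induction hx using Subgroup.closure_induction_left with
    | one => intro h; exact Or.inl (map_one π)
    | mul_left a ha w hw ih => ?_
    | inv_mul_cancel a ha w hw ih => ?_
    all_goals
      intro haw
      have hwX : w ∈ X := by rw [hX, Subgroup.sup_eq_closure]; exact hw
      have hstep : ∀ c : ↥X, π c = 1 ∨ π c = u ∨ π c = v → π (c * ⟨w, hwX⟩) ∈
          ({1, u, v, u * v, v * u, u * v * u} : Set (↥X ⧸ R')) := by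
        intro c hc
        rw [map_mul]
        have r1 : u * (u * v) = v := by rw [← mul_assoc, hu2, one_mul]
        have r2 : u * (v * u) = u * v * u := (mul_assoc _ _ _).symm
        have r3 : u * (u * v * u) = v * u := by rw [← mul_assoc, r1]
        have r4 : v * (v * u) = u := by rw [← mul_assoc, hv2, one_mul]
        have r5 : v * (u * v) = u * v * u := by rw [← mul_assoc, hbraid]
        have r6 : v * (u * v * u) = u * v := by
          rw [← hbraid, ← mul_assoc, ← mul_assoc, hv2, one_mul]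
        rcases ih hwX with h | h | h | h | h | h <;> rw [h] <;> rcases hc with h' | h' | h' <;>
          rw [h'] <;> simp only [Set.mem_insert_iff, Set.mem_singleton_iff, one_mul, mul_one, hu2, hv2,
            r1, r2, r3, r4, r5, r6, eq_self_iff_true, true_or, or_true]
    · have haX : a ∈ X := by rcases ha with ha | ha; exacts [Subgroup.mem_sup_left ha, Subgroup.mem_sup_right ha]
      refine (congrArg π (Subtype.ext rfl : (⟨a * w, haw⟩ : ↥X) = ⟨a, haX⟩ * ⟨w, hwX⟩)) ▸ hstep ⟨a, haX⟩ ?_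
      rcases ha with ha | ha
      · exact (huQ ⟨a, haX⟩ ha).elim Or.inl (fun h => Or.inr (Or.inl h))
      · exact (hvP ⟨a, haX⟩ ha).elim Or.inl (fun h => Or.inr (Or.inr h))
    · have haX : a⁻¹ ∈ X := by rcases ha with ha | ha; exacts [inv_mem (Subgroup.mem_sup_left ha), inv_mem (Subgroup.mem_sup_right ha)]
      refine (congrArg π (Subtype.ext rfl : (⟨a⁻¹ * w, haw⟩ : ↥X) = ⟨a⁻¹, haX⟩ * ⟨w, hwX⟩)) ▸ hstep ⟨a⁻¹, haX⟩ ?_
      rcases ha with ha | ha
      · exact (huQ ⟨a⁻¹, haX⟩ (inv_mem ha)).elim Or.inl (fun h => Or.inr (Or.inl h))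
      · exact (hvP ⟨a⁻¹, haX⟩ (inv_mem ha)).elim Or.inl (fun h => Or.inr (Or.inr h))
  rintro x ⟨hxX, hxC⟩
  have hker : (⟨x, hxX⟩ : ↥X) ∈ ψ.ker := hψk ▸ hxC
  have hRk : R' ≤ ψ.ker := fun r hr => hψk ▸ R_le_centralizer s hr
  let χ := QuotientGroup.lift R' ψ hRk
  have hχ : χ (π ⟨x, hxX⟩) = 1 := hker
  have hχs : Function.Surjective χ := fun t => by
    obtain ⟨w, hw⟩ := hψs t
    exact ⟨π w, hw⟩
  -- six values, surjective onto six permutations
  classical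
  let S : Finset (↥X ⧸ R') := {1, u, v, u * v, v * u, u * v * u}
  have hall : ∀ a, a ∈ S := by
    intro a
    obtain ⟨⟨w, hw⟩, rfl⟩ := QuotientGroup.mk'_surjective R' a
    have := cases6 w hw hw
    simpa only [S, Finset.mem_insert, Finset.mem_singleton, Set.mem_insert_iff,
      Set.mem_singleton_iff] using this
  have hcard : Nat.card (↥X ⧸ R') ≤ 6 := by
    rw [@Nat.card_eq_fintype_card _ ⟨S, hall⟩]
    exact Finset.card_le_six (a := (1 : ↥X ⧸ R')) (b := u) (c := v) (d := u * v) (e := v * u)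
      (f := u * v * u)
  have hperm : Nat.card (Equiv.Perm (Fin 3)) = 6 := by
    rw [Nat.card_eq_fintype_card, Fintype.card_perm, Fintype.card_fin]; rfl
  have hbij : Function.Bijective χ := hχs.bijective_of_nat_card_le (by rw [hperm]; exact hcard)
  exact (QuotientGroup.eq_one_iff (⟨x, hxX⟩ : ↥X)).mp (hbij.1 (hχ.trans (map_one χ).symm))

end Cfsg.Agent.Lib.LargeExtra.FourGroup
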