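import Cfsg.Agent.Lib.LargeExtra.TwoConjugate
import Cfsg.Agent.Lib.Components.GenFitting
import Cfsg.Agent.Lib.FStarTools.Basic
import Cfsg.Agent.Lib.LAEven54.SylowJoin
import Cfsg.Agent.Lib.PGroups.Omega
import Cfsg.Agent.Lib.PGroups.Frattini
import Cfsg.Agent.Lib.Involutions.IndexTwo

/-!
The normal closure of the central involution of a large extraspecial 2-subgroup.
-/

set_option autoImplicit false
set_option linter.all false

namespace Cfsg.Agent.Lib.LargeExtra.Structure

open Cfsg.Agent.Lib.LargeExtraspecial.Basic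
open Cfsg.Agent.Lib.LargeExtra.TwoConjugate
open Cfsg.Agent.Lib.CosetGraph.SylowIn
open Cfsg.Agent.Lib.Components
open scoped commutatorElement Pointwise

variable {G : Type*} [Group G] [Finite G]

/-- The hypotheses of a large extraspecial 2-subgroup with central involution `z`. -/
structure Large (Q : Subgroup G) (z : G) : Prop where
  es : ES Q z
  two : IsPGroup 2 ↥Q
  cent : ∀ c : G, (∀ q ∈ Q, Commute c q) → c = 1 ∨ c = z
  norm : ∀ c : G, Commute c z → ∀ q ∈ Q, c * q * c⁻¹ ∈ Q
  odd : ∀ K : Subgroup G, Odd (Nat.card ↥K) → Q ≤ Subgroup.normalizer (K : Set G) → K = ⊥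

theorem large_of {Q : Subgroup G} (hQ : Cfsg.IsLargeExtraspecial Q) {z : G}
    (hz : (Subgroup.center ↥Q).map Q.subtype = Subgroup.zpowers z) : Large Q z := by
  obtain ⟨hes, hz2⟩ := es_of hQ.1 hz
  exact ⟨hes, hQ.1.1.1, centralizer_eq_of hz2 hz hQ.2.1, norm_of hz hQ.2.2.1, hQ.2.2.2⟩

/-- A simple group has no self-centralising subgroup of order two. -/
theorem not_small_centralizer {L : Type*} [Group L] [Finite L] [IsSimpleGroup L]
    (hna : ¬ IsMulCommutative L) (c : L) (hc1 : c ≠ 1)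
    (h : ∀ l : L, Commute l c → l = 1 ∨ l = c) : False := by
  haveI : Fact (Nat.Prime 2) := ⟨Nat.prime_two⟩
  have hcc : c * c = 1 := by
    refine (h (c * c) ((Commute.refl c).mul_left (Commute.refl c))).resolve_right fun e => hc1 ?_
    simpa using e
  have hord : orderOf c = 2 := orderOf_eq_prime (by rw [sq, hcc]) hc1
  have hz : IsPGroup 2 ↥(Subgroup.zpowers c) :=
    IsPGroup.of_card (n := 1) (by rw [Nat.card_zpowers, hord, pow_one])
  obtain ⟨T, hT⟩ := hz.exists_le_sylow
  have hcT : c ∈ (T : Subgroup L) := hT (Subgroup.mem_zpowers c)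
  haveI : Nontrivial ↥(T : Subgroup L) :=
    ⟨⟨⟨c, hcT⟩, 1, fun e => hc1 (congrArg Subtype.val e)⟩⟩
  have := T.2.center_nontrivial
  obtain ⟨⟨⟨w, hwT⟩, hwc⟩, hw⟩ := exists_ne (1 : ↥(Subgroup.center ↥(T : Subgroup L)))
  have hwcom : ∀ t ∈ (T : Subgroup L), Commute t w := fun t ht =>
    congrArg Subtype.val (Subgroup.mem_center_iff.mp hwc ⟨t, ht⟩)
  have hweq : w = c := (h w (hwcom c hcT).symm).resolve_left fun e => hw (Subtype.ext (Subtype.ext e))
  have hTle : (T : Subgroup L) ≤ Subgroup.zpowers c := fun t ht => by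
    rcases h t (hweq ▸ hwcom t ht) with e | e <;> rw [e]
    · exact one_mem _
    · exact Subgroup.mem_zpowers c
  have hT2 : Nat.card ↥(T : Subgroup L) = 2 := by
    rw [le_antisymm hTle hT, Nat.card_zpowers, hord]
  have hmod : Nat.card L % 4 = 2 := by
    have h1 := T.card_eq_multiplicity
    rw [hT2] at h1
    have h2 : (Nat.card L).factorization 2 = 1 :=
      (Nat.pow_right_injective le_rfl (show 2 ^ 1 = 2 ^ _ from h1.trans rfl)).symm
    have h3 : ¬ 2 ^ 2 ∣ Nat.card L := by
      rw [Nat.Prime.pow_dvd_iff_le_factorization Nat.prime_two Nat.card_pos.ne', h2]; omega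
    have h4 : 2 ∣ Nat.card L := hT2 ▸ Subgroup.card_subgroup_dvd_card _
    omega
  obtain ⟨H, hH⟩ := Cfsg.Agent.Lib.Involutions.IndexTwo.exists_index_two_of_mod_four hmod
  rcases (Subgroup.normal_of_index_eq_two hH).eq_bot_or_eq_top with e | e
  · rw [e, Subgroup.index_bot] at hH
    haveI : Fact (Nat.card L).Prime := ⟨hH ▸ Nat.prime_two⟩
    haveI : IsCyclic L := isCyclic_of_prime_card rfl
    exact hna ⟨⟨fun a b => IsCyclic.commutative.is_comm.comm a b⟩⟩
  · rw [e, Subgroup.index_top] at hH; omega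

variable {Q : Subgroup G} {z : G} (s : Large Q z)
include s

/-- A non-trivial subgroup normalised by `Q` contains `z`. -/
theorem z_mem (N : Subgroup G) (hN : Q ≤ Subgroup.normalizer (N : Set G)) (hne : N ≠ ⊥) : z ∈ N := by
  haveI : Fact (Nat.Prime 2) := ⟨Nat.prime_two⟩
  have hev : 2 ∣ Nat.card ↥N := by
    by_contra h
    exact hne (s.odd N (by rw [Nat.odd_iff]; omega) hN)
  obtain ⟨T, hT, hQT⟩ := IsSylowIn.exists_le (p := 2) s.two (le_sup_right : Q ≤ N ⊔ Q)
  have hnorm : N ⊔ Q ≤ Subgroup.normalizer (N : Set G) := sup_le Subgroup.le_normalizer hN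
  have hTN := Cfsg.Agent.Lib.LAEven54.SylowJoin.inf_of_normal hT le_sup_left hnorm
  have hTNne : T ⊓ N ≠ ⊥ := by
    intro h
    have h1 := hTN.card_eq
    rw [h, Subgroup.card_bot] at h1
    have h2 : 1 ≤ (Nat.card ↥N).factorization 2 :=
      (Nat.Prime.pow_dvd_iff_le_factorization Nat.prime_two Nat.card_pos.ne').mp (by simpa using hev)
    have h3 := Nat.one_lt_pow (show (Nat.card ↥N).factorization 2 ≠ 0 by omega) (one_lt_two)
    omega
  haveI : (N.subgroupOf T).Normal := ⟨fun x hx t => by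
    have := (Subgroup.mem_normalizer_iff.mp (hnorm (hT.le t.2)) (x : G)).mp hx
    simpa [Subgroup.mem_subgroupOf] using this⟩
  have hne' : N.subgroupOf T ≠ ⊥ := by
    rw [Ne, Subgroup.subgroupOf_eq_bot, disjoint_iff, inf_comm]; exact hTNne
  have h1 := Cfsg.Agent.Lib.PGroups.normal_inf_center_ne_bot hT.isPGroup (N.subgroupOf T) hne'
  obtain ⟨⟨c, hcT⟩, ⟨hcN, hcZ⟩, hc1⟩ := (Subgroup.bot_or_exists_ne_one _).resolve_left h1
  rcases s.cent c (fun q hq =>
    (congrArg Subtype.val (Subgroup.mem_center_iff.mp hcZ ⟨q, hQT hq⟩)).symm) with e | e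
  · exact absurd (Subtype.ext e) hc1
  · exact e ▸ hcN

theorem pPrimeCore_eq_bot : Cfsg.pPrimeCore 2 G = ⊥ := by
  haveI : (Cfsg.pPrimeCore 2 G).Normal := Subgroup.sSup_normal _ fun _ h => h.1
  exact s.odd _ (Nat.coprime_two_right.mp (Cfsg.Agent.Lib.Cores.pPrimeCore_coprime 2))
    (by rw [Subgroup.normalizer_eq_top]; exact le_top)

/-- No component centralises `z`. -/
theorem component_not_centralize {K : Subgroup G} (hK : Cfsg.IsComponent K)
    (h : ∀ k ∈ K, Commute k z) : False := by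
  haveI : Fact (Nat.Prime 2) := ⟨Nat.prime_two⟩
  set C := Subgroup.centralizer ({z} : Set G) with hC
  have hKC : K ≤ C := fun k hk => Subgroup.mem_centralizer_singleton_iff.mpr (h k hk).eq
  have hQC : Q ≤ C := fun q hq => Subgroup.mem_centralizer_singleton_iff.mpr (s.es.comm q hq).eq
  haveI : (Q.subgroupOf C).Normal := ⟨fun q hq c => by
    have := s.norm c (Subgroup.mem_centralizer_singleton_iff.mp c.2) (q : G) hq
    simpa [Subgroup.mem_subgroupOf] using this⟩
  have hp : IsPGroup 2 ↥(Q.subgroupOf C) := s.two.comap_subtype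
  haveI := hp.isNilpotent
  have h1 := Component.commutator_eq_bot_of_isSolvable (Component.subgroupOf hK hKC)
    (Subgroup.Normal.isSubnormal (inferInstance : (Q.subgroupOf C).Normal))
  rw [commutator_subgroupOf_eq_bot_iff hQC hKC, Subgroup.commutator_eq_bot_iff_le_centralizer] at h1
  refine Component.not_le_centralizer_self hK fun k hk => ?_
  rw [Subgroup.mem_centralizer_iff]
  intro k' hk'
  have hk2 : ∀ a ∈ K, a = 1 ∨ a = z := fun a ha =>
    s.cent a fun q hq => (Subgroup.mem_centralizer_iff.mp (h1 hq) a ha)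
  rcases hk2 k hk with rfl | rfl <;> rcases hk2 k' hk' with rfl | rfl <;> simp

omit s in
theorem mem_map_conj {L : Subgroup G} {g x : G} :
    x ∈ L.map (MulAut.conj g).toMonoidHom ↔ g⁻¹ * x * g ∈ L :=
  Cfsg.Agent.Lib.LargeExtra.TwoConjugate.mem_conj

omit s in
theorem map_conj_map {L : Subgroup G} (a b : G) :
    (L.map (MulAut.conj b).toMonoidHom).map (MulAut.conj a).toMonoidHom =
      L.map (MulAut.conj (a * b)).toMonoidHom := by
  ext x
  simp only [mem_map_conj, mul_inv_rev, mul_assoc]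

/-- The case `O₂(G) ≠ 1`. -/
theorem case_pCore (h : Cfsg.pCore 2 G ≠ ⊥) :
    IsMulCommutative ↥(Subgroup.normalClosure ({z} : Set G)) ∧
      Cfsg.generalizedFittingSubgroup G = Cfsg.pCore 2 G := by
  haveI : Fact (Nat.Prime 2) := ⟨Nat.prime_two⟩
  set P := Cfsg.pCore 2 G with hP
  haveI hPn : P.Normal := Subgroup.sSup_normal _ fun _ h => h.1
  have hPp : IsPGroup 2 ↥P := Cfsg.Agent.Lib.Cores.pCore_isPGroup 2
  haveI hZn : ((Subgroup.center ↥P).map P.subtype).Normal :=
    Cfsg.Agent.Lib.Cores.normal_map_subtype P _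
  have hZne : (Subgroup.center ↥P).map P.subtype ≠ ⊥ := by
    intro e
    rw [Subgroup.map_eq_bot_iff_of_injective _ P.subtype_injective] at e
    haveI : Nontrivial ↥P := (Subgroup.nontrivial_iff_ne_bot P).mpr h
    have := hPp.center_nontrivial
    exact not_subsingleton ↥(Subgroup.center ↥P) (e ▸ inferInstance)
  have hzZ : z ∈ (Subgroup.center ↥P).map P.subtype :=
    z_mem s _ (by rw [Subgroup.normalizer_eq_top]; exact le_top) hZne
  have hzP : z ∈ P := Subgroup.map_subtype_le _ hzZ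
  refine ⟨⟨⟨fun a b => ?_⟩⟩, ?_⟩
  · have hle : Subgroup.normalClosure ({z} : Set G) ≤ (Subgroup.center ↥P).map P.subtype :=
      Subgroup.normalClosure_le_normal (by simpa using hzZ)
    obtain ⟨-, ha⟩ := Cfsg.Agent.Lib.LargeExtra.Basic.mem_centerMap.mp (hle a.2)
    exact Subtype.ext (ha (b : G) (Subgroup.map_subtype_le _ (hle b.2))).symm
  · have hF := Cfsg.Agent.Lib.FStarTools.fitting_eq_pCore (pPrimeCore_eq_bot s)
    have hE : Cfsg.layer G = ⊥ := by
      by_contra hne
      obtain ⟨K, hK⟩ := Layer.layer_ne_bot_iff.mp hne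
      refine component_not_centralize s hK fun k hk => ?_
      exact Subgroup.mem_centralizer_iff.mp
        (Component.fittingSubgroup_le_centralizer hK (hF.symm ▸ hzP)) k hk
    rw [Cfsg.generalizedFittingSubgroup, hE, bot_sup_eq, hF]

variable (hP0 : Cfsg.pCore 2 G = ⊥)
include hP0

theorem fitting_eq_bot : Cfsg.fittingSubgroup G = ⊥ := by
  haveI : Fact (Nat.Prime 2) := ⟨Nat.prime_two⟩
  rw [Cfsg.Agent.Lib.FStarTools.fitting_eq_pCore (pPrimeCore_eq_bot s), hP0]

theorem genFitting_eq : Cfsg.generalizedFittingSubgroup G = Cfsg.layer G := by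
  rw [Cfsg.generalizedFittingSubgroup, fitting_eq_bot s hP0, sup_bot_eq]

theorem component_center {K : Subgroup G} (hK : Cfsg.IsComponent K) :
    Subgroup.center ↥K = ⊥ := by
  have h1 : ((Subgroup.center ↥K).map K.subtype).IsSubnormal :=
    (Subgroup.Normal.isSubnormal inferInstance).trans' hK.1
  have h2 : Group.IsNilpotent ↥((Subgroup.center ↥K).map K.subtype) := by
    refine Cfsg.Agent.Lib.Cores.isNilpotent_map _ ?_
    open scoped IsMulCommutative in exact CommGroup.isNilpotent (G := ↥(Subgroup.center ↥K))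
  have h3 := Cfsg.Agent.Lib.Cores.IsSubnormal.le_fittingSubgroup h1 h2
  rwa [fitting_eq_bot s hP0, le_bot_iff, Subgroup.map_eq_bot_iff_of_injective _ K.subtype_injective]
    at h3

theorem component_simple {K : Subgroup G} (hK : Cfsg.IsComponent K) : IsSimpleGroup ↥K := by
  haveI := hK.2.2
  haveI : Nontrivial ↥K := Quasisimple.nontrivial hK.2
  exact IsSimpleGroup.isSimpleGroup_of_surjective
    ((QuotientGroup.quotientMulEquivOfEq (component_center s hP0 hK)).trans
      QuotientGroup.quotientBot).toMonoidHom (MulEquiv.surjective _)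

theorem eq_one_of_centralize {K : Subgroup G} (hK : Cfsg.IsComponent K) {k : G} (hk : k ∈ K)
    (h : ∀ l ∈ K, Commute k l) : k = 1 := by
  have : (⟨k, hk⟩ : ↥K) ∈ Subgroup.center ↥K :=
    Subgroup.mem_center_iff.mpr fun l => Subtype.ext (h l l.2).eq.symm
  rw [component_center s hP0 hK, Subgroup.mem_bot] at this
  exact congrArg Subtype.val this

theorem layer_eq_normalClosure : Cfsg.layer G = Subgroup.normalClosure ({z} : Set G) := by
  set M := Subgroup.normalClosure ({z} : Set G) with hM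
  haveI : Nontrivial G := ⟨⟨z, 1, s.es.ne⟩⟩
  have hne : Cfsg.layer G ≠ ⊥ := genFitting_eq s hP0 ▸ GenFitting.ne_bot
  haveI hEn : (Cfsg.layer G).Normal := by
    rw [← genFitting_eq s hP0]; exact GenFitting.generalizedFitting_normal
  refine le_antisymm (sSup_le fun K hK => ?_) (Subgroup.normalClosure_le_normal ?_)
  · rcases Component.le_or_commutator_eq_bot hK
      (Subgroup.Normal.isSubnormal (inferInstance : M.Normal)) with h | h
    · exact h
    · exfalso
      rw [Subgroup.commutator_eq_bot_iff_le_centralizer] at h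
      exact component_not_centralize s hK fun k hk =>
        Subgroup.mem_centralizer_iff.mp (h (Subgroup.subset_normalClosure rfl)) k hk
  · simpa using z_mem s _ (by rw [Subgroup.normalizer_eq_top]; exact le_top) hne

theorem z_mem_layer : z ∈ Cfsg.layer G :=
  layer_eq_normalClosure s hP0 ▸ Subgroup.subset_normalClosure rfl

/-- All components are conjugate under `Q`. -/
theorem exists_conj_component {L K : Subgroup G} (hL : Cfsg.IsComponent L)
    (hK : Cfsg.IsComponent K) : ∃ q ∈ Q, K = L.map (MulAut.conj q).toMonoidHom := by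
  by_contra hcon
  push Not at hcon
  set N : Subgroup G := ⨆ q : ↥Q, L.map (MulAut.conj (q : G)).toMonoidHom with hN
  have hQN : Q ≤ Subgroup.normalizer (N : Set G) := by
    intro p hp
    rw [mem_normalizer_iff_map, hN, Subgroup.map_iSup]
    refine le_antisymm (iSup_le fun q => ?_) (iSup_le fun q => ?_)
    · rw [map_conj_map]
      exact le_iSup (fun q : ↥Q => L.map (MulAut.conj (q : G)).toMonoidHom) (⟨p, hp⟩ * q)
    · refine le_trans (le_of_eq ?_)
        (le_iSup (fun i : ↥Q => (L.map (MulAut.conj (i : G)).toMonoidHom).map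
          (MulAut.conj p).toMonoidHom) ((⟨p, hp⟩ : ↥Q)⁻¹ * q))
      rw [map_conj_map]
      simp
  have hle : N ≤ Subgroup.centralizer (K : Set G) := iSup_le fun q =>
    Component.le_centralizer_of_ne (Component.conj hL _) hK fun e => hcon q q.2 e.symm
  have hNne : N ≠ ⊥ := fun e => Component.ne_bot hL (le_bot_iff.mp (e ▸
    le_trans (le_of_eq (by ext x; simp [mem_map_conj]))
      (le_iSup (fun q : ↥Q => L.map (MulAut.conj (q : G)).toMonoidHom) 1)))
  exact component_not_centralize s hK fun k hk =>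
    Subgroup.mem_centralizer_iff.mp (hle (z_mem s N hQN hNne)) k hk

/-- `z` normalises every component. -/
theorem z_conj_mem {L : Subgroup G} (hL : Cfsg.IsComponent L) {l : G} (hl : l ∈ L) :
    z * l * z⁻¹ ∈ L :=
  (Subgroup.mem_normalizer_iff.mp (Layer.layer_le_normalizer hL (z_mem_layer s hP0)) l).mp hl

/-- `z` fixes a non-trivial element of each component. -/
theorem exists_fixed {L : Subgroup G} (hL : Cfsg.IsComponent L) :
    ∃ c ∈ L, c ≠ 1 ∧ Commute c z := by
  by_contra hcon
  push Not at hcon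
  have hinv := Cfsg.Agent.Lib.LargeExtra.Basic.inverts_of_fixedPointFree s.es.sq L
    (fun l hl => z_conj_mem s hP0 hL hl) fun l hl hfix => by
      by_contra h1
      exact hcon l hl h1 (mul_inv_eq_iff_eq_mul.mp hfix).symm
  refine Component.not_isMulCommutative hL ⟨⟨fun a b => Subtype.ext ?_⟩⟩
  have h1 := hinv _ (L.mul_mem a.2 b.2)
  have h2 : z * ((a : G) * b) * z⁻¹ = (a : G)⁻¹ * (b : G)⁻¹ := by
    rw [← hinv _ a.2, ← hinv _ b.2]; group
  rw [h2, mul_inv_rev] at h1
  have := congrArg (·⁻¹) h1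
  simpa using this.symm

/-- Two `Q`-conjugate components exhaust all components. -/
theorem two_components {L : Subgroup G} (hL : Cfsg.IsComponent L) {u : G} (hu : u ∈ Q)
    (hne : L.map (MulAut.conj u).toMonoidHom ≠ L) {K : Subgroup G} (hK : Cfsg.IsComponent K) :
    K = L ∨ K = L.map (MulAut.conj u).toMonoidHom := by
  by_contra hcon
  push Not at hcon
  obtain ⟨q', hq', rfl⟩ := exists_conj_component s hP0 hL hK
  set L' := L.map (MulAut.conj u).toMonoidHom with hL'
  have hL'c : Cfsg.IsComponent L' := Component.conj hL u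
  have hmove : ∀ X : Subgroup G, X ≠ L.map (MulAut.conj q').toMonoidHom →
      X.map (MulAut.conj q'⁻¹).toMonoidHom ≠ L := by
    intro X hX e
    apply hX
    rw [← e, map_conj_map]
    ext x; simp [mem_map_conj]
  have hcomm : ∀ {X : Subgroup G}, Cfsg.IsComponent X → X ≠ L → ∀ x ∈ X, ∀ l ∈ L, Commute x l :=
    fun {X} hX hXL x hx l hl =>
      (Subgroup.mem_centralizer_iff.mp (Component.le_centralizer_of_ne hX hL hXL hx) l hl).symm
  -- the fixed points of `z` on `L` act like `z`
  have key : ∀ c ∈ L, Commute c z → c = 1 ∨ ∀ l ∈ L, Commute (c * z) l := by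
    intro c hc hcz
    set x := u * c⁻¹ * u⁻¹ with hx
    have hxL' : x ∈ L' := by rw [hL', mem_map_conj, hx]; simpa [mul_assoc] using hc
    have hxl : ∀ l ∈ L, Commute x l := hcomm hL'c hne x hxL'
    have hdQ : c * x ∈ Q := by
      have := Q.mul_mem (s.norm c hcz u hu) (Q.inv_mem hu)
      simpa [hx, mul_assoc] using this
    have hd' : ∀ l ∈ L, Commute (q'⁻¹ * (c * x) * q'⁻¹⁻¹) l := by
      intro l hl
      have e : q'⁻¹ * (c * x) * q'⁻¹⁻¹ = (q'⁻¹ * c * q'⁻¹⁻¹) * (q'⁻¹ * x * q'⁻¹⁻¹) := by group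
      rw [e]
      exact (hcomm (Component.conj hL q'⁻¹) (hmove L hcon.1.symm) _ (conj_mem hc) l hl).mul_left
        (hcomm (Component.conj hL'c q'⁻¹) (hmove L' hcon.2.symm) _ (conj_mem hxL') l hl)
    rcases s.es.conj q'⁻¹ (Q.inv_mem hq') (c * x) hdQ with e | e <;> rw [e] at hd'
    · left
      refine eq_one_of_centralize s hP0 hL hc fun l hl => ?_
      have := (hd' l hl).mul_left (hxl l hl).inv_left
      simpa using this
    · right
      intro l hl
      have hcx : c * x = x * c := (hxl c hc).eq.symm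
      have := (hxl l hl).inv_left.mul_left (hd' l hl)
      rwa [hcx, mul_assoc x, inv_mul_cancel_left] at this
  obtain ⟨c, hc, hc1, hcz⟩ := exists_fixed s hP0 hL
  have hcl := (key c hc hcz).resolve_left hc1
  haveI := component_simple s hP0 hL
  refine not_small_centralizer (Component.not_isMulCommutative hL) (⟨c, hc⟩ : ↥L)
    (fun e => hc1 (congrArg Subtype.val e)) fun l hl => ?_
  have hlc : Commute (l : G) c := congrArg Subtype.val hl
  have hlz : Commute (l : G) z := by
    have := hlc.inv_right.mul_right (hcl l l.2).symm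
    simpa using this
  rcases key l l.2 hlz with e | e
  · exact Or.inl (Subtype.ext e)
  · right
    apply Subtype.ext
    have h1 : ∀ m ∈ L, Commute (((l : G) * z) * (c * z)⁻¹) m := fun m hm =>
      (e m hm).mul_left (hcl m hm).inv_left
    have h2 : ((l : G) * z) * (c * z)⁻¹ = l * c⁻¹ := by group
    simp only [h2] at h1
    exact mul_inv_eq_one.mp (eq_one_of_centralize s hP0 hL (L.mul_mem l.2 (L.inv_mem hc)) h1)

/-- The structure of the normal closure when there are two components. -/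
theorem case_two {L : Subgroup G} (hL : Cfsg.IsComponent L) {u : G} (hu : u ∈ Q)
    (hne : L.map (MulAut.conj u).toMonoidHom ≠ L) :
    IsSimpleGroup ↥L ∧ ¬ IsMulCommutative ↥L ∧ L ⊓ L.map (MulAut.conj u).toMonoidHom = ⊥ ∧
      (∀ x ∈ L, ∀ y ∈ L.map (MulAut.conj u).toMonoidHom, x * y = y * x) ∧
      L ⊔ L.map (MulAut.conj u).toMonoidHom = Subgroup.normalClosure ({z} : Set G) ∧
      ∃ z₁ ∈ L, z = z₁ * (u * z₁ * u⁻¹) ∧
        (∃ R : Sylow 2 ↥L, (R : Subgroup ↥L) = (Subgroup.centralizer ({z₁} : Set G)).subgroupOf L ∧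
          (frattini ↥(R : Subgroup ↥L)).map ((L.subtype).comp (R : Subgroup ↥L).subtype) ≤
            Subgroup.zpowers z₁) ∧
        Q ≠ (Cfsg.pCore 2 ↥(Subgroup.centralizer ({z} : Set G))).map
          (Subgroup.centralizer ({z} : Set G)).subtype := by
  haveI : Fact (Nat.Prime 2) := ⟨Nat.prime_two⟩
  set L' := L.map (MulAut.conj u).toMonoidHom with hL'
  have hL'c : Cfsg.IsComponent L' := Component.conj hL u
  have hE : L ⊔ L' = Cfsg.layer G := by
    refine le_antisymm (sup_le (Layer.component_le_layer hL) (Layer.component_le_layer hL'c))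
      (sSup_le fun K hK => ?_)
    rcases two_components s hP0 hL hu hne hK with e | e <;> rw [e]
    · exact le_sup_left
    · exact le_sup_right
  have hcomm : ∀ x ∈ L, ∀ y ∈ L', Commute x y := fun x hx y hy =>
    Subgroup.mem_centralizer_iff.mp (Component.le_centralizer_of_ne hL'c hL hne hy) x hx
  have hinf : L ⊓ L' = ⊥ := by
    rw [eq_bot_iff]
    intro x hx
    exact Subgroup.mem_bot.mpr
      (eq_one_of_centralize s hP0 hL hx.1 fun l hl => (hcomm l hl x hx.2).symm)
  have uniq : ∀ x ∈ L, ∀ y ∈ L', ∀ x' ∈ L, ∀ y' ∈ L', x * y = x' * y' → x = x' ∧ y = y' := by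
    intro x hx y hy x' hx' y' hy' e
    have e2 : x'⁻¹ * x = y' * y⁻¹ := by
      calc x'⁻¹ * x = x'⁻¹ * (x * y) * y⁻¹ := by group
        _ = x'⁻¹ * (x' * y') * y⁻¹ := by rw [e]
        _ = y' * y⁻¹ := by group
    have h1 : x'⁻¹ * x ∈ L ⊓ L' :=
      ⟨L.mul_mem (L.inv_mem hx') hx, e2 ▸ L'.mul_mem hy' (L'.inv_mem hy)⟩
    rw [hinf, Subgroup.mem_bot, inv_mul_eq_one] at h1
    subst h1
    exact ⟨rfl, mul_left_cancel e⟩
  have hu2 : L'.map (MulAut.conj u).toMonoidHom = L :=
    (two_components s hP0 hL hu hne (Component.conj hL'c u)).resolve_right fun e =>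
      hne (Subgroup.map_injective (MulAut.conj u).injective e)
  have huL : ∀ x ∈ L, u * x * u⁻¹ ∈ L' := fun x hx => conj_mem hx
  have huL' : ∀ y ∈ L', u * y * u⁻¹ ∈ L := fun y hy => hu2 ▸ conj_mem hy
  have hzu : Commute u z := s.es.comm u hu
  have hn : L' ≤ Subgroup.normalizer (L : Set G) :=
    (Component.le_centralizer_of_ne hL'c hL hne).trans (Subgroup.centralizer_le_normalizer _)
  obtain ⟨a, ha, b, hb, hab⟩ : ∃ a ∈ L, ∃ b ∈ L', a * b = z := by
    have h : z ∈ ((L ⊔ L' : Subgroup G) : Set G) := hE ▸ z_mem_layer s hP0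
    rw [Subgroup.coe_mul_of_right_le_normalizer_left L L' hn] at h
    exact Set.mem_mul.mp h
  have hba : b = u * a * u⁻¹ := by
    have e : (u * b * u⁻¹) * (u * a * u⁻¹) = a * b := by
      calc (u * b * u⁻¹) * (u * a * u⁻¹) = u * (b * a) * u⁻¹ := by group
        _ = u * z * u⁻¹ := by rw [← (hcomm a ha b hb).eq, hab]
        _ = a * b := by rw [hzu.eq, mul_inv_cancel_right, hab]
    exact (uniq _ (huL' b hb) _ (huL a ha) _ ha _ hb e).2.symm
  have ha1 : a ≠ 1 := fun e => s.es.ne (by rw [← hab, hba, e]; simp)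
  have hcaz : ∀ c ∈ L, (Commute c a ↔ Commute c z) := by
    intro c hc
    rw [← hab]
    exact ⟨fun h => h.mul_right (hcomm c hc b hb), fun h => by
      have := h.mul_right (hcomm c hc b hb).inv_right
      simpa using this⟩
  -- membership of `1` or `z` reads off the first coordinate
  have hfst : ∀ x ∈ L, ∀ y ∈ L', x * y = 1 ∨ x * y = z → x ∈ Subgroup.zpowers a := by
    intro x hx y hy h
    rcases h with h | h
    · rw [(uniq x hx y hy 1 L.one_mem 1 L'.one_mem (by rw [h, one_mul])).1]; exact one_mem _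
    · rw [(uniq x hx y hy a ha b hb (by rw [h, hab])).1]; exact Subgroup.mem_zpowers a
  have hd : ∀ c ∈ L, Commute c z → c * (u * c⁻¹ * u⁻¹) ∈ Q := fun c hc hcz => by
    have := Q.mul_mem (s.norm c hcz u hu) (Q.inv_mem hu)
    simpa [mul_assoc] using this
  -- `C_L(z)` is a 2-group
  have hR2 : ∀ c ∈ L, Commute c z → ∃ n : ℕ, c ^ 2 ^ n = 1 := by
    intro c hc hcz
    obtain ⟨n, hn⟩ := s.two ⟨_, hd c hc hcz⟩
    have hn' : (c * (u * c⁻¹ * u⁻¹)) ^ 2 ^ n = 1 := congrArg Subtype.val hn
    rw [(hcomm c hc _ (huL _ (L.inv_mem hc))).mul_pow] at hn'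
    exact ⟨n, (uniq _ (L.pow_mem hc _) _ (L'.pow_mem (huL _ (L.inv_mem hc)) _) 1 L.one_mem 1
      L'.one_mem (by rw [hn', one_mul])).1⟩
  set R₀ := (Subgroup.centralizer ({a} : Set G)).subgroupOf L with hR0
  have memR : ∀ c : ↥L, c ∈ R₀ ↔ Commute (c : G) z := fun c => by
    rw [hR0, Subgroup.mem_subgroupOf, Subgroup.mem_centralizer_singleton_iff]
    exact (hcaz c c.2)
  have hR0p : IsPGroup 2 ↥R₀ := fun c => by
    obtain ⟨n, hn⟩ := hR2 _ (c : ↥L).2 ((memR c).mp c.2)
    exact ⟨n, Subtype.ext (Subtype.ext (by simpa using hn))⟩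
  -- it is a Sylow subgroup of `L`
  obtain ⟨P, hQP⟩ := s.two.exists_le_sylow
  have hPz : ∀ x ∈ (P : Subgroup G), Commute x z := by
    haveI : Nontrivial ↥(P : Subgroup G) :=
      ⟨⟨⟨z, hQP s.es.mem⟩, 1, fun e => s.es.ne (congrArg Subtype.val e)⟩⟩
    have := P.2.center_nontrivial
    obtain ⟨⟨⟨w, hwP⟩, hwc⟩, hw⟩ := exists_ne (1 : ↥(Subgroup.center ↥(P : Subgroup G)))
    have hwcom : ∀ t ∈ (P : Subgroup G), Commute t w := fun t ht =>
      congrArg Subtype.val (Subgroup.mem_center_iff.mp hwc ⟨t, ht⟩)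
    have hweq : w = z := (s.cent w fun q hq => (hwcom q (hQP hq)).symm).resolve_left
      fun e => hw (Subtype.ext (Subtype.ext e))
    exact fun x hx => hweq ▸ hwcom x hx
  obtain ⟨S, hS⟩ := (Cfsg.Agent.Lib.LAEven54.SylowJoin.isSylowIn_inf P hL.1).exists_sylow
  have hSR : (S : Subgroup ↥L) ≤ R₀ := fun c hc => by
    have : (c : G) ∈ (P : Subgroup G) ⊓ L := hS ▸ ⟨c, hc, rfl⟩
    exact (memR c).mpr (hPz _ this.1)
  have hRS : R₀ = (S : Subgroup ↥L) := S.3 hR0p hSR
  haveI := component_simple s hP0 hL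
  refine ⟨inferInstance, Component.not_isMulCommutative hL, hinf, fun x hx y hy => (hcomm x hx y hy).eq,
    hE.trans (layer_eq_normalClosure s hP0), a, ha, by rw [← hba, hab], ⟨S, hRS.symm, ?_⟩, ?_⟩
  · set f := (L.subtype).comp (S : Subgroup ↥L).subtype with hf
    have hfm : ∀ x, f x ∈ L ∧ Commute (f x) z := fun x =>
      ⟨(x : ↥L).2, (memR x).mp (by rw [hRS]; exact x.2)⟩
    haveI hN : ((Subgroup.zpowers a).comap f).Normal := ⟨fun x hx g => by
      rw [Subgroup.mem_comap] at hx ⊢
      rw [map_mul, map_mul, map_inv]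
      obtain ⟨k, hk⟩ := hx
      have hc : Commute (f g) (f x) := hk ▸ ((hcaz _ (hfm g).1).mpr (hfm g).2).zpow_right k
      rw [hc.eq, mul_inv_cancel_right]
      exact ⟨k, hk⟩⟩
    rw [Subgroup.map_le_iff_le_comap]
    refine Cfsg.Agent.Lib.PGroups.frattini_le_of_pow_commutator (p := 2) _ (fun x => ?_) ?_
    · rw [Subgroup.mem_comap, map_pow]
      obtain ⟨hc, hcz⟩ := hfm x
      have hq := s.es.sq_cases (hd _ hc hcz)
      have e : f x * (u * (f x)⁻¹ * u⁻¹) * (f x * (u * (f x)⁻¹ * u⁻¹)) =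
          (f x) ^ 2 * (u * (f x)⁻¹ * u⁻¹) ^ 2 := by
        rw [← sq, (hcomm _ hc _ (huL _ (L.inv_mem hc))).mul_pow]
      rw [e] at hq
      exact hfst _ (L.pow_mem hc _) _ (L'.pow_mem (huL _ (L.inv_mem hc)) _) hq
    · rw [commutator_def, Subgroup.commutator_le]
      intro x _ y _
      rw [Subgroup.mem_comap, map_commutatorElement, commutatorElement_def]
      obtain ⟨hc, hcz⟩ := hfm x
      obtain ⟨he, hez⟩ := hfm y
      have h1 := s.es.conj _ (hd _ hc hcz) _ (hd _ he hez)
      have hx' := huL _ (L.inv_mem hc)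
      have hy' := huL _ (L.inv_mem he)
      have hzc := (s.es.comm _ (hd _ he hez)).eq
      set c := f x
      set e := f y
      set c' := u * c⁻¹ * u⁻¹
      set e' := u * e⁻¹ * u⁻¹
      clear_value c e c' e'
      have key : (c * c') * (e * e') * (c * c')⁻¹ * (e * e')⁻¹ =
          (c * e * c⁻¹ * e⁻¹) * (c' * e' * c'⁻¹ * e'⁻¹) := by
        have k1 : Commute e c' := hcomm e he c' hx'
        have k2 : Commute (c * e) (c' * e') :=
          ((hcomm c hc _ (L'.mul_mem hx' hy')).mul_left (hcomm e he _ (L'.mul_mem hx' hy')))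
        have k3 : Commute (c⁻¹ * e⁻¹) (c'⁻¹ * e'⁻¹) :=
          hcomm _ (L.mul_mem (L.inv_mem hc) (L.inv_mem he)) _
            (L'.mul_mem (L'.inv_mem hx') (L'.inv_mem hy'))
        have a1 : (c * c') * (e * e') = (c * e) * (c' * e') := by
          rw [mul_assoc c, ← mul_assoc c', ← k1.eq]; group
        have a2 : (c * c')⁻¹ * (e * e')⁻¹ = (c⁻¹ * e⁻¹) * (c'⁻¹ * e'⁻¹) := by
          rw [(hcomm c hc c' hx').eq, mul_inv_rev, (hcomm e he e' hy').eq, mul_inv_rev]
          have k4 : Commute c'⁻¹ e⁻¹ := (hcomm e he c' hx').inv_inv.symm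
          rw [mul_assoc c⁻¹, ← mul_assoc c'⁻¹, k4.eq]; group
        have k5 : Commute (c⁻¹ * e⁻¹) (c' * e') :=
          hcomm _ (L.mul_mem (L.inv_mem hc) (L.inv_mem he)) _ (L'.mul_mem hx' hy')
        calc (c * c') * (e * e') * (c * c')⁻¹ * (e * e')⁻¹
            = ((c * c') * (e * e')) * ((c * c')⁻¹ * (e * e')⁻¹) := by group
          _ = (c * e) * ((c' * e') * (c⁻¹ * e⁻¹)) * (c'⁻¹ * e'⁻¹) := by rw [a1, a2]; group
          _ = (c * e) * ((c⁻¹ * e⁻¹) * (c' * e')) * (c'⁻¹ * e'⁻¹) := by rw [k5.eq]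
          _ = _ := by group
      refine hfst _ (L.mul_mem (L.mul_mem (L.mul_mem hc he) (L.inv_mem hc)) (L.inv_mem he))
        _ (L'.mul_mem (L'.mul_mem (L'.mul_mem hx' hy') (L'.inv_mem hx')) (L'.inv_mem hy')) ?_
      rw [← key]
      rcases h1 with h | h
      · exact Or.inl (by rw [h, mul_inv_cancel])
      · right
        rw [h, hzc, mul_inv_cancel_right]
  · intro hQO
    set C := Subgroup.centralizer ({z} : Set G) with hC
    haveI hEn : (L ⊔ L').Normal := by
      rw [hE, layer_eq_normalClosure s hP0]; infer_instance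
    have hDp : IsPGroup 2 ↥((L ⊔ L').subgroupOf C) := by
      intro m
      have hm : ((m : ↥C) : G) ∈ ((L ⊔ L' : Subgroup G) : Set G) := m.2
      rw [Subgroup.coe_mul_of_right_le_normalizer_left L L' hn] at hm
      obtain ⟨x, hx, y, hy, hxy⟩ := Set.mem_mul.mp hm
      have hmz : Commute (x * y) z := hxy ▸ Subgroup.mem_centralizer_singleton_iff.mp (m : ↥C).2
      have hu' : u⁻¹ * y * u ∈ L := mem_map_conj.mp hy
      have e : (x * a) * (y * b) = (a * x) * (b * y) := by
        calc (x * a) * (y * b) = x * (a * y) * b := by group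
          _ = x * (y * a) * b := by rw [(hcomm a ha y hy).eq]
          _ = (x * y) * z := by rw [← hab]; group
          _ = z * (x * y) := hmz.eq
          _ = a * (b * x) * y := by rw [← hab]; group
          _ = a * (x * b) * y := by rw [(hcomm x hx b hb).eq]
          _ = (a * x) * (b * y) := by group
      obtain ⟨exa, eyb⟩ := uniq _ (L.mul_mem hx ha) _ (L'.mul_mem hy hb) _ (L.mul_mem ha hx) _
        (L'.mul_mem hb hy) e
      obtain ⟨n1, hn1⟩ := hR2 x hx ((hcaz x hx).mp exa)
      have hyz : Commute (u⁻¹ * y * u) z := by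
        have h' : Commute y z := by
          rw [← hab]; exact ((hcomm a ha y hy).symm).mul_right eyb
        exact ((hzu.inv_left).mul_left h').mul_left hzu
      obtain ⟨n2, hn2⟩ := hR2 _ hu' hyz
      have hn2' : y ^ 2 ^ n2 = 1 := by
        have := conj_pow (i := 2 ^ n2) (a := u) (b := u⁻¹ * y * u)
        rw [hn2] at this
        simpa [mul_assoc] using this
      refine ⟨n1 + n2, Subtype.ext (Subtype.ext ?_)⟩
      have : (x * y) ^ 2 ^ (n1 + n2) = 1 := by
        rw [(hcomm x hx y hy).mul_pow, pow_add]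
        rw [show x ^ (2 ^ n1 * 2 ^ n2) = 1 by rw [pow_mul, hn1, one_pow],
          show y ^ (2 ^ n1 * 2 ^ n2) = 1 by rw [mul_comm, pow_mul, hn2', one_pow], one_mul]
      simpa [hxy] using this
    have hle := Cfsg.Agent.Lib.Cores.le_pCore hDp
    refine not_small_centralizer (Component.not_isMulCommutative hL) (⟨a, ha⟩ : ↥L)
      (fun e => ha1 (congrArg Subtype.val e)) fun l hl => ?_
    have hla : Commute (l : G) a := congrArg Subtype.val hl
    have hlz := (hcaz l l.2).mp hla
    have hlQ : (l : G) ∈ Q := hQO ▸ ⟨⟨l, Subgroup.mem_centralizer_singleton_iff.mpr hlz.eq⟩,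
      hle (Subgroup.mem_subgroupOf.mpr (Subgroup.mem_sup_left l.2)), rfl⟩
    rcases s.es.conj u hu l hlQ with e | e
    · left
      exact Subtype.ext (uniq (l : G) l.2 1 L'.one_mem 1 L.one_mem _ (huL l l.2)
        (by rw [mul_one, one_mul, e])).1
    · right
      have e2 : ((l : G) * a) * b = 1 * (u * l * u⁻¹) := by rw [mul_assoc, hab, one_mul, e]
      have h1 := (uniq _ (L.mul_mem l.2 ha) b hb 1 L.one_mem _ (huL l l.2) e2).1
      have h2 : a * a = 1 := by
        have hzz : (a * a) * (b * b) = 1 := by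
          calc (a * a) * (b * b) = a * (a * b) * b := by group
            _ = a * (b * a) * b := by rw [(hcomm a ha b hb).eq]
            _ = z * z := by rw [← hab]; group
            _ = 1 := s.es.sq
        exact (uniq _ (L.mul_mem ha ha) _ (L'.mul_mem hb hb) 1 L.one_mem 1 L'.one_mem
          (by rw [hzz, one_mul])).1
      apply Subtype.ext
      show (l : G) = a
      rw [eq_inv_of_mul_eq_one_left h1, inv_eq_of_mul_eq_one_right h2]

end Cfsg.Agent.Lib.LargeExtra.Structure
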