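import Cfsg.Agent.Lib.LargeExtra.Structure
import Cfsg.Agent.S5426
import Cfsg.Agent.S5421

/-!
`F*(C(z))` extraspecial: the centraliser hypotheses of a large extraspecial subgroup, and a
simplicity criterion.
-/

set_option autoImplicit false
set_option linter.all false

namespace Cfsg.Agent.Lib.LargeExtra.Simple

open Cfsg.Agent.Lib.LargeExtraspecial.Basic
open scoped Pointwise

variable {G : Type*} [Group G] [Finite G]

theorem base_of_fitting (z : G) (hz : orderOf z = 2) (Q : Subgroup G)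
    (hF : (Cfsg.generalizedFittingSubgroup ↥(Subgroup.centralizer ({z} : Set G))).map
      (Subgroup.centralizer ({z} : Set G)).subtype = Q)
    (hQ : Cfsg.IsExtraspecial 2 ↥Q) :
    (Subgroup.center ↥Q).map Q.subtype = Subgroup.zpowers z ∧
      Subgroup.centralizer (Q : Set G) = (Subgroup.center ↥Q).map Q.subtype ∧
      Subgroup.centralizer (((Subgroup.center ↥Q).map Q.subtype) : Set G) ≤
        Subgroup.normalizer (Q : Set G) ∧ z ∈ Q := by
  set C := Subgroup.centralizer ({z} : Set G) with hC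
  set F := Cfsg.generalizedFittingSubgroup ↥C with hFdef
  haveI hFn : F.Normal := Cfsg.Agent.Lib.Components.GenFitting.generalizedFitting_normal
  have hQC : Q ≤ C := hF ▸ Subgroup.map_subtype_le F
  have hcF : ∀ c ∈ C, (∀ q ∈ Q, Commute c q) → c ∈ Q := by
    intro c hc hall
    have h1 : (⟨c, hc⟩ : ↥C) ∈ Subgroup.centralizer (F : Set ↥C) :=
      Subgroup.mem_centralizer_iff.mpr fun f hf =>
        Subtype.ext (hall f (hF ▸ ⟨f, hf, rfl⟩)).eq.symm
    have h2 := Cfsg.Agent.Lib.Components.GenFitting.centralizer_le h1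
    exact hF ▸ ⟨⟨c, hc⟩, h2, rfl⟩
  have hzcom : ∀ q ∈ Q, Commute z q := fun q hq =>
    (Subgroup.mem_centralizer_singleton_iff.mp (hQC hq)).symm
  have hzQ : z ∈ Q := hcF z (Subgroup.mem_centralizer_singleton_iff.mpr rfl) hzcom
  obtain ⟨w, hw2, hwZ⟩ := Cfsg.Agent.Lib.LargeExtra.Basic.exists_z hQ
  have hzm : z ∈ (Subgroup.center ↥Q).map Q.subtype :=
    Cfsg.Agent.Lib.LargeExtra.Basic.mem_centerMap.mpr ⟨hzQ, fun q hq => (hzcom q hq).eq.symm⟩
  have hzZ : (Subgroup.center ↥Q).map Q.subtype = Subgroup.zpowers z := by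
    rw [hwZ] at hzm
    rcases Cfsg.Agent.Lib.LargeExtra.Basic.eq_one_or_eq hw2 hzm with h | h
    · simp [h] at hz
    · rw [hwZ, h]
  refine ⟨hzZ, le_antisymm (fun c hc => ?_) (fun c hc => ?_), fun c hc => ?_, hzQ⟩
  · have hcQ : ∀ q ∈ Q, Commute c q := fun q hq =>
      (Subgroup.mem_centralizer_iff.mp hc q hq).symm
    have := hcF c (Subgroup.mem_centralizer_singleton_iff.mpr (hcQ z hzQ).eq) hcQ
    exact Cfsg.Agent.Lib.LargeExtra.Basic.mem_centerMap.mpr ⟨this, fun q hq => (hcQ q hq).eq.symm⟩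
  · exact Subgroup.mem_centralizer_iff.mpr (Cfsg.Agent.Lib.LargeExtra.Basic.mem_centerMap.mp hc).2
  · have hcC : c ∈ C := Subgroup.mem_centralizer_singleton_iff.mpr
      (Subgroup.mem_centralizer_iff.mp hc z hzm).symm
    rw [Subgroup.mem_normalizer_iff]
    have key : ∀ d : G, d ∈ C → ∀ q ∈ Q, d * q * d⁻¹ ∈ Q := by
      intro d hd q hq
      rw [← hF] at hq ⊢
      obtain ⟨f, hf, rfl⟩ := hq
      exact ⟨⟨d, hd⟩ * f * ⟨d, hd⟩⁻¹, hFn.conj_mem f hf _, rfl⟩
    exact fun q => ⟨key c hcC q, fun h => by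
      simpa [mul_assoc] using key c⁻¹ (C.inv_mem hcC) _ h⟩

end Cfsg.Agent.Lib.LargeExtra.Simple
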